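import Mathlib
import Cfsg.Agent.H25.FiveC
import Cfsg.Agent.H75.Tools
import Cfsg.Agent.H75.TwoCount

/-!
# Groups with an element `u` such that `χ(1) - χ(u) = 4` or `χ(u) = 0` for all `χ ≠ 1` (owner helper25)

Part D: the centralizer of `u` and the kernel of the character of degree three.
-/

set_option autoImplicit false
set_option linter.unusedSectionVars false
set_option linter.unusedVariables false
set_option linter.style.haveILetI false

namespace Cfsg.Agent.H25.Five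

open scoped ComplexConjugate BigOperators
open Cfsg Cfsg.Agent.CharBase Cfsg.Agent.Char

universe v

variable {G : Type v} [Group G] [Fintype G] {u : G}

/-- the group is perfect. -/
theorem perfect (h : Hyp u) : commutator G = ⊤ := by
  have h1 : ∀ f : G →* ℂˣ, f = 1 := by
    intro f
    have hc := isCharacter_of_hom ((Units.coeHom ℂ).comp f)
    have h2 := lin' h hc (by simp)
    ext g
    have h3 := congrFun h2 g
    simpa using h3
  obtain ⟨e⟩ := H75.exists_dual_equiv G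
  have h2 : Subsingleton (Abelianization G) := by
    refine ⟨fun a b => ?_⟩
    apply e.symm.injective
    rw [h1 (e.symm a), h1 (e.symm b)]
  have h3 := Subgroup.Normal.quotient_commutative_iff_commutator_le (N := commutator G)
  rw [eq_top_iff]
  intro g _
  have h4 : (QuotientGroup.mk g : G ⧸ commutator G) = QuotientGroup.mk (1 : G) := @Subsingleton.elim (Abelianization G) h2 _ _
  have h5 := QuotientGroup.eq.mp h4.symm
  simpa using h5

section

variable {ρ ρ' : G → ℂ}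

/-- sums over the irreducible characters, for functions vanishing where `ψ u = 0`. -/
theorem sum_four (hρ : R u ρ) (hρ' : R u ρ') (hne : ρ' ≠ ρ) {χ : G → ℂ} (hχ : IsIrrCharacter G χ) (hχ5 : χ 1 = 5)
    [Fintype (IrrCharacter G)] (F : (G → ℂ) → ℂ)
    (hF : ∀ ψ : IrrCharacter G, (ψ : G → ℂ) ≠ (fun _ => 1) → (ψ : G → ℂ) ≠ ρ → (ψ : G → ℂ) ≠ ρ' → (ψ : G → ℂ) ≠ χ → F ψ = 0) :
    ∑ ψ : IrrCharacter G, F ψ = F (fun _ => 1) + F ρ + F ρ' + F χ := by
  classical
  let a : IrrCharacter G := ⟨fun _ => 1, irr_one⟩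
  let b : IrrCharacter G := ⟨ρ, hρ.irr⟩
  let b' : IrrCharacter G := ⟨ρ', hρ'.irr⟩
  let c : IrrCharacter G := ⟨χ, hχ⟩
  have hab : a ≠ b := fun e => hρ.2.1 (congrArg Subtype.val e).symm
  have hab' : a ≠ b' := fun e => hρ'.2.1 (congrArg Subtype.val e).symm
  have hac : a ≠ c := fun e => by
    have := congrFun (congrArg Subtype.val e) (1 : G)
    change (1 : ℂ) = χ 1 at this
    rw [hχ5] at this; norm_num at this
  have hbb' : b ≠ b' := fun e => hne (congrArg Subtype.val e).symm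
  have hbc : b ≠ c := fun e => by
    have := congrFun (congrArg Subtype.val e) (1 : G)
    change ρ 1 = χ 1 at this
    rw [hχ5, hρ.one] at this; norm_num at this
  have hb'c : b' ≠ c := fun e => by
    have := congrFun (congrArg Subtype.val e) (1 : G)
    change ρ' 1 = χ 1 at this
    rw [hχ5, hρ'.one] at this; norm_num at this
  have h1 : ∑ ψ : IrrCharacter G, F ψ = ∑ ψ ∈ ({a, b, b', c} : Finset (IrrCharacter G)), F ψ := by
    symm
    apply Finset.sum_subset (Finset.subset_univ _)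
    intro ψ _ hψ
    simp only [Finset.mem_insert, Finset.mem_singleton, not_or] at hψ
    exact hF ψ (fun e => hψ.1 (Subtype.ext e)) (fun e => hψ.2.1 (Subtype.ext e)) (fun e => hψ.2.2.1 (Subtype.ext e))
      (fun e => hψ.2.2.2 (Subtype.ext e))
  rw [h1, Finset.sum_insert (by simp [hab, hab', hac]), Finset.sum_insert (by simp [hbb', hbc]),
    Finset.sum_insert (by simp [hb'c]), Finset.sum_singleton]
  change F (fun _ => 1) + (F ρ + (F ρ' + F χ)) = _
  ring

theorem four (h : Hyp u) (hu : u ≠ 1) (hρ : R u ρ) (hρ' : R u ρ') (hne : ρ' ≠ ρ)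
    (hR : ∀ σ : G → ℂ, R u σ → σ = ρ ∨ σ = ρ') {χ : G → ℂ} (hχ : IsIrrCharacter G χ) (hχ5 : χ 1 = 5) (hχu : χ u = 1)
    {ψ : G → ℂ} (hψ : IsIrrCharacter G ψ) (h1 : ψ ≠ fun _ => 1) (h2 : ψ ≠ ρ) (h3 : ψ ≠ ρ') (h4 : ψ ≠ χ) : ψ u = 0 := by
  classical
  have : Fintype (IrrCharacter G) := Fintype.ofFinite _
  -- natural numbers
  have hnat : ∀ ψ : IrrCharacter G, (ψ : G → ℂ) ≠ (fun _ => 1) → (ψ : G → ℂ) ≠ ρ → (ψ : G → ℂ) ≠ ρ' →
      ∃ n : ℕ, (ψ : G → ℂ) 1 * (ψ : G → ℂ) u = n ∧ (n = 0 → (ψ : G → ℂ) u = 0) := by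
    intro ψ h1 h2 h3
    by_cases hψu : (ψ : G → ℂ) u = 0
    · exact ⟨0, by rw [hψu, mul_zero, Nat.cast_zero], fun _ => hψu⟩
    obtain ⟨d, hd, hd4, hd'⟩ := deg_S h ψ.2 h1 hψu
    have hd5 : 5 ≤ d := by
      rcases hd' with h5 | h5
      · exfalso
        subst h5
        have : R u (ψ : G → ℂ) := ⟨ψ.2, h1, hd, by rw [hd4]; norm_num, Or.inl ⟨rfl, hψu, Or.inl rfl⟩⟩
        rcases hR _ this with h6 | h6
        · exact h2 h6
        · exact h3 h6
      · exact h5
    obtain ⟨m, rfl⟩ := Nat.exists_eq_add_of_le hd5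
    have e : (ψ : G → ℂ) u = ((m + 1 : ℕ) : ℂ) := by
      have : (ψ : G → ℂ) u = (ψ : G → ℂ) 1 - 4 := by linear_combination -hd4
      rw [this, hd]; push_cast; ring
    refine ⟨(5 + m) * (m + 1), by rw [hd, e]; push_cast; ring, fun h0 => ?_⟩
    exfalso
    have : 0 < (5 + m) * (m + 1) := by positivity
    omega
  let F : (G → ℂ) → ℂ := fun ψ => if ψ = (fun _ => 1) ∨ ψ = ρ ∨ ψ = ρ' ∨ ψ = χ then ψ 1 * ψ u else 0
  have hs := sum_four hρ hρ' hne hχ hχ5 F (fun ψ a1 a2 a3 a4 => by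
    simp only [F]
    rw [if_neg]
    rintro (a5 | a5 | a5 | a5)
    exacts [a1 a5, a2 a5, a3 a5, a4 a5])
  have e1 : F (fun _ => 1) = 1 := by simp [F]
  have e2 : F ρ = -3 := by simp [F, hρ.one, hρ.val]
  have e3 : F ρ' = -3 := by simp [F, hρ'.one, hρ'.val]
  have e4 : F χ = 5 := by simp [F, hχ5, hχu]
  rw [e1, e2, e3, e4] at hs
  have hcol := sum_degree_mul (G := G) u
  rw [if_neg hu] at hcol
  have hn : ∀ ψ : IrrCharacter G, ∃ n : ℕ, (ψ : G → ℂ) 1 * (ψ : G → ℂ) u - F ψ = n ∧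
      ((ψ : G → ℂ) ≠ (fun _ => 1) → (ψ : G → ℂ) ≠ ρ → (ψ : G → ℂ) ≠ ρ' → (ψ : G → ℂ) ≠ χ → n = 0 → (ψ : G → ℂ) u = 0) := by
    intro ψ
    by_cases hc : (ψ : G → ℂ) = (fun _ => 1) ∨ (ψ : G → ℂ) = ρ ∨ (ψ : G → ℂ) = ρ' ∨ (ψ : G → ℂ) = χ
    · refine ⟨0, by simp only [F]; rw [if_pos hc]; simp, ?_⟩
      intro a1 a2 a3 a4
      rcases hc with a5 | a5 | a5 | a5
      exacts [absurd a5 a1, absurd a5 a2, absurd a5 a3, absurd a5 a4]
    · have hc' := hc
      push Not at hc'
      obtain ⟨n, hn, hn'⟩ := hnat ψ hc'.1 hc'.2.1 hc'.2.2.1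
      exact ⟨n, by simp only [F]; rw [if_neg hc, sub_zero, hn], fun _ _ _ _ => hn'⟩
  choose n hn hn' using hn
  have hsum : (∑ ψ : IrrCharacter G, (n ψ : ℂ)) = 0 := by
    have : (∑ ψ : IrrCharacter G, (n ψ : ℂ)) = ∑ ψ : IrrCharacter G, ((ψ : G → ℂ) 1 * (ψ : G → ℂ) u - F ψ) :=
      Finset.sum_congr rfl (fun ψ _ => (hn ψ).symm)
    rw [this, Finset.sum_sub_distrib, hs]
    have e5 : ∑ ψ : IrrCharacter G, (ψ : G → ℂ) 1 * (ψ : G → ℂ) u = 0 := by
      rw [← hcol]
    rw [e5]; norm_num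
  have hsum' : (∑ ψ : IrrCharacter G, n ψ) = 0 := by exact_mod_cast hsum
  have h0 := (Finset.sum_eq_zero_iff.mp hsum') ⟨ψ, hψ⟩ (Finset.mem_univ _)
  exact hn' ⟨ψ, hψ⟩ h1 h2 h3 h4 h0

end

/-- the outcome of the character theory. -/
theorem outcome (h : Hyp u) (hu : u ≠ 1) :
    ∃ K : Subgroup G, K.Normal ∧ K.index = 60 ∧ u ∉ K ∧ u * u ∈ K ∧
      Nat.card (Subgroup.centralizer ({u} : Set G)) = 4 ∧
      (∀ g : G, g ∉ K → g * g ∈ K → IsConj u g) ∧ (∀ g : G, (g * g) * (g * g) ∈ K → g * g ∈ K) := by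
  classical
  have : Fintype (IrrCharacter G) := Fintype.ofFinite _
  obtain ⟨ρ, hρ, hr⟩ := exists_real h hu
  obtain ⟨ρ', hρ', hr', hne, hall⟩ := real_two h hρ hr
  have hR : ∀ σ : G → ℂ, R u σ → σ = ρ ∨ σ = ρ' := fun σ hσ => all_real h hρ hr hρ' hr' hne hall hσ
  obtain ⟨hχ, hχ5, hχu⟩ := chi_irr h hρ hr
  have hχχ := chi_eq h hρ hρ' hr hr'
  have hzero : ∀ ψ : IrrCharacter G, (ψ : G → ℂ) ≠ (fun _ => 1) → (ψ : G → ℂ) ≠ ρ → (ψ : G → ℂ) ≠ ρ' →
      (ψ : G → ℂ) ≠ chi ρ → (ψ : G → ℂ) u = 0 :=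
    fun ψ a1 a2 a3 a4 => four h hu hρ hρ' hne hR hχ hχ5 hχu ψ.2 a1 a2 a3 a4
  have hcent : Nat.card (Subgroup.centralizer ({u} : Set G)) = 4 := by
    have h1 := column_orthogonality_of_isConj (G := G) (g := u) (h := u) (IsConj.refl u)
    have h2 := sum_four hρ hρ' hne hχ hχ5 (fun ψ => ψ u * conj (ψ u)) (fun ψ a1 a2 a3 a4 => by
      simp only [hzero ψ a1 a2 a3 a4, zero_mul])
    rw [h2] at h1
    simp only [hρ.val, hρ'.val, hχu, map_one, map_neg] at h1
    have : (Nat.card (Subgroup.centralizer ({u} : Set G)) : ℂ) = ((4 : ℕ) : ℂ) := by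
      rw [← h1]; norm_num
    exact_mod_cast this
  have hrg : ∀ g, conj (ρ g) = ρ g := fun g => congrFun hr g
  have hrg' : ∀ g, conj (ρ' g) = ρ' g := fun g => congrFun hr' g
  have hval : ∀ g, ¬ IsConj u g → ρ g = 0 ∨ ρ g = 3 ∨ ρ g * ρ g - ρ g - 1 = 0 := by
    intro g hg
    have h1 := column_orthogonality_of_not_isConj (G := G) (g := g) (h := u) (fun e => hg e.symm)
    have h2 := sum_four hρ hρ' hne hχ hχ5 (fun ψ => ψ g * conj (ψ u)) (fun ψ a1 a2 a3 a4 => by
      simp only [hzero ψ a1 a2 a3 a4, map_zero, mul_zero])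
    rw [h2] at h1
    simp only [hρ.val, hρ'.val, hχu, map_one, map_neg] at h1
    have h3 := congrFun hχχ g
    rw [chi_apply, chi_apply] at h3
    have h4 : ρ' g = ρ g * ρ g - 2 * ρ g := by
      rw [chi_apply] at h1; linear_combination -h1
    rw [h4] at h3
    have h5 : ρ g * ((ρ g - 3) * (ρ g * ρ g - ρ g - 1)) = 0 := by linear_combination -h3
    rcases mul_eq_zero.mp h5 with h6 | h6
    · exact Or.inl h6
    · rcases mul_eq_zero.mp h6 with h7 | h7
      · exact Or.inr (Or.inl (sub_eq_zero.mp h7))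
      · exact Or.inr (Or.inr h7)
  have hconj : ∀ g, ρ g = -1 → IsConj u g := by
    intro g hg
    by_contra hcon
    rcases hval g hcon with h1 | h1 | h1 <;> rw [hg] at h1 <;> norm_num at h1
  have hconj' : ∀ g, IsConj u g → ρ g = -1 := by
    intro g hg
    obtain ⟨c, hc⟩ := isConj_iff.mp hg
    rw [← hc, isClassFunction_of_isCharacter hρ.char u c, hρ.val]
  set K := H75.charKer hρ.char with hK
  have hmem : ∀ g, g ∈ K ↔ ρ g = 3 := fun g => by rw [hK, H75.mem_charKer, hρ.one]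
  have hKn : K.Normal := H75.charKer_normal hρ.char
  -- index
  have hidx : K.index = 60 := by
    have h1 : classInner (ρ * (ρ + (fun _ : G => (1 : ℂ)))) (chi ρ) = 1 := by
      have e : ρ * (ρ + (fun _ : G => (1 : ℂ))) = ρ * cc ρ + ρ := by
        funext g
        simp only [Pi.mul_apply, Pi.add_apply, cc_apply, hrg]; ring
      rw [e, classInner_add_left, inner_sq hr, inner_ne irr_one hχ (ne_of_deg (by rw [hχ5]; norm_num)),
        inner_self hχ, inner_ne hρ.irr hχ (ne_of_deg (by rw [hχ5, hρ.one]; norm_num))]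
      ring
    have hterm : ∀ g : G, (ρ * (ρ + (fun _ : G => (1 : ℂ)))) g * conj (chi ρ g) = if g ∈ K then 60 else 0 := by
      intro g
      have hccg : conj (chi ρ g) = chi ρ g := congrFun (cc_chi hr) g
      rw [hccg, chi_apply, Pi.mul_apply, Pi.add_apply]
      by_cases hg : IsConj u g
      · have h2 := hconj' g hg
        rw [if_neg (by rw [hmem, h2]; norm_num), h2]; ring
      · rcases hval g hg with h2 | h2 | h2
        · rw [if_neg (by rw [hmem, h2]; norm_num), h2]; ring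
        · rw [if_pos ((hmem g).mpr h2), h2]; norm_num
        · rw [if_neg]
          · have : ρ g * ρ g - 1 - ρ g = 0 := by linear_combination h2
            rw [this, mul_zero]
          · rw [hmem]; intro h3; rw [h3] at h2; norm_num at h2
    unfold classInner at h1
    simp only [hterm] at h1
    rw [Finset.sum_ite, Finset.sum_const_zero, add_zero, Finset.sum_const, nsmul_eq_mul] at h1
    have hc1 : (Finset.univ.filter (fun g => g ∈ K)).card = Nat.card K := by
      rw [Nat.card_eq_fintype_card, Fintype.card_subtype]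
    have hc1' : ((Finset.univ.filter (fun g => g ∈ K)).card : ℂ) = (Nat.card K : ℂ) := by rw [hc1]
    have hG0 : (Nat.card G : ℂ) ≠ 0 := by exact_mod_cast (Nat.card_pos (α := G)).ne'
    have hK0 : Nat.card K ≠ 0 := Nat.card_pos.ne'
    have h2 : ((Nat.card K * 60 : ℕ) : ℂ) = ((Nat.card G : ℕ) : ℂ) := by
      push_cast
      rw [← hc1']
      field_simp at h1
      linear_combination h1
    have h3 : Nat.card K * 60 = Nat.card G := by exact_mod_cast h2
    have h4 := K.card_mul_index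
    rw [← h3] at h4
    exact Nat.eq_of_mul_eq_mul_left (Nat.pos_of_ne_zero hK0) h4
  have hsq : ∀ g, ρ (g * g) = ρ g ^ 2 - 2 * ρ g := by
    intro g
    rw [dsq h hρ.char hρ.one, hrg]
  refine ⟨K, hKn, hidx, by rw [hmem, hρ.val]; norm_num, by rw [hmem, hρ.uu h], hcent, ?_, ?_⟩
  · intro g hg hg2
    apply hconj
    rw [hmem, hsq] at hg2
    rw [hmem] at hg
    have h1 : (ρ g - 3) * (ρ g + 1) = 0 := by linear_combination hg2
    rcases mul_eq_zero.mp h1 with h2 | h2
    · exact absurd (sub_eq_zero.mp h2) hg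
    · linear_combination h2
  · intro g hg
    by_contra hg2
    rw [hmem, hsq] at hg
    rw [hmem] at hg2
    have h1 : (ρ (g * g) - 3) * (ρ (g * g) + 1) = 0 := by linear_combination hg
    rcases mul_eq_zero.mp h1 with h2 | h2
    · exact hg2 (sub_eq_zero.mp h2)
    · rw [hsq] at h2
      have h3 : (ρ g - 1) ^ 2 = 0 := by linear_combination h2
      have h4 : ρ g = 1 := by
        have := pow_eq_zero_iff (two_ne_zero) |>.mp h3
        exact sub_eq_zero.mp this
      by_cases hc : IsConj u g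
      · rw [hconj' g hc] at h4; norm_num at h4
      · rcases hval g hc with h5 | h5 | h5 <;> rw [h4] at h5 <;> norm_num at h5

end Cfsg.Agent.H25.Five
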