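import Mathlib
import Cfsg.Agent.H25.PGroupCenter
import Cfsg.Agent.H56.TwoGroups
import Cfsg.Agent.S3378
import Cfsg.Agent.S0253
import Cfsg.Agent.S0494
import Cfsg.Agent.Solv.Core

/-!
# Groups with an element `u` such that `χ(1) - χ(u) = 4` or `χ(u) = 0` for all `χ ≠ 1` (owner helper25)

Part E: group theory.
-/

set_option autoImplicit false
set_option linter.unusedSectionVars false
set_option linter.unusedVariables false
set_option linter.style.haveILetI false

namespace Cfsg.Agent.H25.Five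

open Cfsg

theorem mem_of_four {Q : Type*} [Group Q] [Finite Q] {g x : Q} (hg : orderOf g = 4) (hx : x ∈ Subgroup.zpowers g) :
    x = 1 ∨ x = g ∨ x = g * g ∨ x = g * (g * g) := by
  classical
  rw [mem_zpowers_iff_mem_range_orderOf, hg] at hx
  simp only [Finset.mem_image, Finset.mem_range] at hx
  obtain ⟨k, hk, rfl⟩ := hx
  interval_cases k
  · left; simp
  · right; left; simp
  · right; right; left; rw [pow_two]
  · right; right; right; rw [pow_succ', pow_two]

theorem mem_of_four_of_mem {Q : Type*} [Group Q] [Finite Q] {N : Subgroup Q} {g x : Q} (hg : orderOf g = 4)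
    (hgN : g ∉ N) (hg2 : g * g ∈ N) (hx : x ∈ Subgroup.zpowers g) (hxN : x ∈ N) : x = 1 ∨ x = g * g := by
  rcases mem_of_four hg hx with h | h | h | h
  · exact Or.inl h
  · exact absurd (h ▸ hxN) hgN
  · exact Or.inr h
  · exfalso
    apply hgN
    rw [h] at hxN
    exact (Subgroup.mul_mem_cancel_right N hg2).mp hxN

theorem sq_ne_one_of_four {Q : Type*} [Group Q] {g : Q} (hg : orderOf g = 4) : g * g ≠ 1 := by
  intro h
  have : orderOf g ∣ 2 := orderOf_dvd_of_pow_eq_one (by rw [pow_two, h])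
  rw [hg] at this
  norm_num at this

theorem exists_mem_ne_one {Q : Type*} [Group Q] {N : Subgroup Q} (h : N ≠ ⊥) : ∃ x ∈ N, x ≠ 1 := by
  by_contra hcon
  push Not at hcon
  exact h (by rw [eq_bot_iff]; intro x hx; exact Subgroup.mem_bot.mpr (hcon x hx))

/-- 2-groups with a normal subgroup outside of which the centralizers have order four. -/
theorem two_group_aux {Q : Type*} [Group Q] [Finite Q] (hQ : IsPGroup 2 Q) (N : Subgroup Q) [N.Normal]
    (h2 : ∀ g : Q, g * g ∈ N)
    (h4 : ∀ g : Q, g ∉ N → orderOf g = 4 ∧ ∀ x : Q, x * g = g * x → x ∈ Subgroup.zpowers g)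
    {u v : Q} (hu : u ∉ N) (hv : v ∉ N) (huv : u * v ∉ N) :
    ∃ z : Q, z ≠ 1 ∧ z ∈ N ∧ z * z = 1 ∧ (∀ g, z * g = g * z) ∧ (∀ g, g ∉ N → g * g = z) ∧ ∀ x ∈ N, x = 1 ∨ x = z := by
  haveI : Fact (Nat.Prime 2) := ⟨Nat.prime_two⟩
  have hN : N ≠ ⊥ := by
    intro h
    have h1 := h2 u
    rw [h, Subgroup.mem_bot] at h1
    exact sq_ne_one_of_four (h4 u hu).1 h1
  obtain ⟨z, hz, hz1⟩ := exists_mem_ne_one (H25.inf_center_ne_bot hQ N hN)
  have hzN : z ∈ N := hz.1
  have hzc : ∀ g, z * g = g * z := fun g => ((Subgroup.mem_center_iff.mp hz.2) g).symm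
  have hsq : ∀ g, g ∉ N → g * g = z := by
    intro g hg
    have h1 := (h4 g hg).2 z (hzc g)
    rcases mem_of_four_of_mem (h4 g hg).1 hg (h2 g) h1 hzN with h3 | h3
    · exact absurd h3 hz1
    · exact h3.symm
  have hzz : z * z = 1 := by
    have h1 := pow_orderOf_eq_one u
    rw [(h4 u hu).1] at h1
    rw [← hsq u hu, ← h1]
    simp only [pow_succ, pow_zero, one_mul, mul_assoc]
  refine ⟨z, hz1, hzN, hzz, hzc, hsq, ?_⟩
  by_contra hcon
  push Not at hcon
  obtain ⟨x, hxN, hx1, hxz⟩ := hcon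
  -- the subgroup generated by `z`
  let Z : Subgroup Q :=
    { carrier := {a | a = 1 ∨ a = z}
      mul_mem' := by
        rintro a b (rfl | rfl) (rfl | rfl)
        · left; simp
        · right; simp
        · right; simp
        · left; exact hzz
      one_mem' := Or.inl rfl
      inv_mem' := by
        rintro a (rfl | rfl)
        · left; simp
        · right; exact inv_eq_of_mul_eq_one_right hzz }
  have hZ : ∀ a, a ∈ Z ↔ a = 1 ∨ a = z := fun a => Iff.rfl
  haveI hZn : Z.Normal := by
    refine ⟨fun a ha g => ?_⟩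
    rcases ha with rfl | rfl
    · left; simp
    · right
      rw [← hzc g]; simp
  have hM : N.map (QuotientGroup.mk' Z) ≠ ⊥ := by
    intro h
    have h1 : QuotientGroup.mk' Z x ∈ N.map (QuotientGroup.mk' Z) := Subgroup.mem_map_of_mem _ hxN
    rw [h, Subgroup.mem_bot, QuotientGroup.mk'_apply, QuotientGroup.eq_one_iff, hZ] at h1
    rcases h1 with h1 | h1
    exacts [hx1 h1, hxz h1]
  haveI : (N.map (QuotientGroup.mk' Z)).Normal := Subgroup.Normal.map inferInstance _ (QuotientGroup.mk'_surjective Z)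
  obtain ⟨y', hy', hy'1⟩ := exists_mem_ne_one (H25.inf_center_ne_bot (hQ.to_quotient Z) (N.map (QuotientGroup.mk' Z)) hM)
  obtain ⟨y, hyN, rfl⟩ := hy'.1
  have hyZ : ¬ (y = 1 ∨ y = z) := by
    intro h
    apply hy'1
    rw [QuotientGroup.mk'_apply, QuotientGroup.eq_one_iff]
    exact h
  have hyc : ∀ g, y * g = g * y ∨ y * g = g * y * z := by
    intro g
    have h1 := (Subgroup.mem_center_iff.mp hy'.2) (QuotientGroup.mk' Z g)
    rw [← map_mul, ← map_mul] at h1
    have h3 := QuotientGroup.eq.mp h1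
    rw [hZ] at h3
    rcases h3 with h3 | h3
    · left
      exact (inv_mul_eq_one.mp h3).symm
    · right
      rw [← h3]; group
  have hyno : ∀ g, g ∉ N → y * g = g * y * z := by
    intro g hg
    rcases hyc g with h1 | h1
    · exfalso
      have h3 := mem_of_four_of_mem (h4 g hg).1 hg (h2 g) ((h4 g hg).2 y h1) hyN
      rw [hsq g hg] at h3
      exact hyZ h3
    · exact h1
  have e1 := hyno u hu
  have e2 := hyno v hv
  have e3 := hyno (u * v) huv
  apply hz1
  have e4 : y * (u * v) = u * v * y := by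
    calc y * (u * v) = (y * u) * v := by group
      _ = (u * y * z) * v := by rw [e1]
      _ = u * y * (z * v) := by group
      _ = u * y * (v * z) := by rw [hzc v]
      _ = u * (y * v) * z := by group
      _ = u * (v * y * z) * z := by rw [e2]
      _ = u * v * y * (z * z) := by group
      _ = u * v * y := by rw [hzz, mul_one]
  rw [e4] at e3
  exact (mul_eq_left.mp e3.symm)

theorem two_group_quat {Q : Type*} [Group Q] [Finite Q] (hQ : IsPGroup 2 Q) (N : Subgroup Q) [N.Normal]
    (h2 : ∀ g : Q, g * g ∈ N) (hidx : N.index = 4)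
    (h4 : ∀ g : Q, g ∉ N → orderOf g = 4 ∧ ∀ x : Q, x * g = g * x → x ∈ Subgroup.zpowers g)
    {u v : Q} (hu : u ∉ N) (hv : v ∉ N) (huv : u * v ∉ N) :
    Nat.card N = 2 ∧ Nonempty (Q ≃* QuaternionGroup 2) := by
  obtain ⟨z, hz1, hzN, hzz, hzc, hsq, hall⟩ := two_group_aux hQ N h2 h4 hu hv huv
  have hN2 : Nat.card N = 2 := by
    rw [Nat.card_eq_two_iff]
    refine ⟨1, ⟨z, hzN⟩, fun h => hz1 (congrArg Subtype.val h).symm, ?_⟩
    ext x
    simp only [Set.mem_insert_iff, Set.mem_singleton_iff, Set.mem_univ, iff_true]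
    rcases hall x x.2 with h | h
    · left; exact Subtype.ext h
    · right; exact Subtype.ext h
  refine ⟨hN2, ?_⟩
  have hQ8 : Nat.card Q = 8 := by
    rw [← N.card_mul_index, hN2, hidx]
  have hinv : ∀ x : Q, orderOf x = 2 → x = z := by
    intro x hx
    have hxN : x ∈ N := by
      by_contra h
      rw [(h4 x h).1] at hx
      norm_num at hx
    rcases hall x hxN with h | h
    · rw [h, orderOf_one] at hx; norm_num at hx
    · exact h
  rcases H56.order_eight_unique_involution hQ8 (fun x y hx hy => by rw [hinv x hx, hinv y hy]) with hc | hc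
  · exfalso
    obtain ⟨g, hg⟩ := hc.exists_generator
    have h8 : orderOf g = 8 := by
      rw [orderOf_eq_card_of_forall_mem_zpowers hg, hQ8]
    by_cases hgN : g ∈ N
    · have : orderOf g ∣ 2 := by
        apply orderOf_dvd_of_pow_eq_one
        rcases hall g hgN with h | h
        · rw [h]; simp
        · rw [h, pow_two, hzz]
      rw [h8] at this
      norm_num at this
    · rw [(h4 g hgN).1] at h8
      norm_num at h8
  · exact hc

/-- normal 2-complements for groups of order twice an odd number. -/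
theorem exists_odd_half {K : Type*} [Group K] [Finite K] {m : ℕ} (h : Nat.card K = 2 * m) (hm : Odd m) :
    ∃ M : Subgroup K, M.Normal ∧ Nat.card M = m := by
  haveI : Fact (Nat.Prime 2) := ⟨Nat.prime_two⟩
  obtain ⟨P⟩ : Nonempty (Sylow 2 K) := inferInstance
  have hP : Nat.card P = 2 := by
    have := S3378.card_sylow_of P (k := 1) (m := m) (by rw [h, pow_one]) (fun hd => by
      rw [← even_iff_two_dvd] at hd
      exact (Nat.not_even_iff_odd.mpr hm) hd)
    rw [this]; norm_num
  have hcyc : IsCyclic P := isCyclic_of_prime_card hP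
  have hmin : (Nat.card K).minFac = 2 := by
    rw [Nat.minFac_eq_two_iff, h]
    exact dvd_mul_right _ _
  have hc := hcyc.isComplement' hmin
  refine ⟨(MonoidHom.transferSylow P (hcyc.normalizer_le_centralizer hmin)).ker, inferInstance, ?_⟩
  have h1 := hc.card_mul
  have h2 : Nat.card (P : Subgroup K) = 2 := hP
  rw [h2, h] at h1
  omega

/-- conjugation by `g` on an invariant subgroup. -/
def conjOn {G : Type*} [Group G] (C : Subgroup G) (g : G) (h : ∀ c ∈ C, g * c * g⁻¹ ∈ C) : C →* C where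
  toFun c := ⟨g * c * g⁻¹, h c c.2⟩
  map_one' := by ext; simp
  map_mul' a b := by ext; simp

theorem inverts {G : Type*} [Group G] [Finite G] (C : Subgroup G) (g : G) (h : ∀ c ∈ C, g * c * g⁻¹ ∈ C)
    (hfp : ∀ c ∈ C, g * c * g⁻¹ = c → c = 1) (h2 : ∀ c ∈ C, g * (g * c * g⁻¹) * g⁻¹ = c) :
    (∀ c ∈ C, g * c * g⁻¹ = c⁻¹) ∧ ∀ c ∈ C, ∀ d ∈ C, c * d = d * c := by
  have hfp' : MonoidHom.FixedPointFree (conjOn C g h) := by
    intro c hc
    apply Subtype.ext
    exact hfp c c.2 (congrArg Subtype.val hc)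
  have hinv : Function.Involutive (conjOn C g h) := by
    intro c
    apply Subtype.ext
    exact h2 c c.2
  refine ⟨fun c hc => ?_, fun c hc d hd => ?_⟩
  · have := congrFun (hfp'.coe_eq_inv_of_involutive hinv) ⟨c, hc⟩
    exact congrArg Subtype.val this
  · have := hfp'.commute_all_of_involutive hinv ⟨c, hc⟩ ⟨d, hd⟩
    exact congrArg Subtype.val this.eq

theorem eq_one_of_odd {G : Type*} [Group G] [Finite G] {R : Subgroup G} (hR : Odd (Nat.card R)) {x : G} (hx : x ∈ R)
    {k : ℕ} (h : x ^ (2 ^ k) = 1) : x = 1 := by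
  have h1 : orderOf x ∣ 2 ^ k := orderOf_dvd_of_pow_eq_one h
  have h2 : orderOf x ∣ Nat.card R := by
    have := orderOf_dvd_natCard (⟨x, hx⟩ : R)
    rwa [← Subgroup.orderOf_coe] at this
  have h3 : Nat.Coprime (2 ^ k) (Nat.card R) := by
    apply Nat.Coprime.pow_left
    exact (Nat.coprime_two_left).mpr hR
  have h4 : orderOf x = 1 := Nat.eq_one_of_dvd_coprimes h3 h1 h2
  exact orderOf_eq_one_iff.mp h4

theorem not_solvable_quot {G : Type*} [Group G] [Finite G] (h : commutator G = ⊤) (N : Subgroup G) [N.Normal]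
    (hN : N.index ≠ 1) : ¬ Group.IsSolvable (G ⧸ N) := by
  intro hs
  haveI : Nontrivial (G ⧸ N) := by
    rw [← Finite.one_lt_card_iff_nontrivial]
    have h1 : Nat.card (G ⧸ N) ≠ 1 := hN
    have h2 : 0 < Nat.card (G ⧸ N) := Nat.card_pos
    omega
  have h1 := Group.IsSolvable.commutator_lt_top_of_nontrivial (G ⧸ N)
  apply h1.ne
  have h2 := Subgroup.map_commutator (⊤ : Subgroup G) ⊤ (QuotientGroup.mk' N)
  have h3 : (⊤ : Subgroup G).map (QuotientGroup.mk' N) = ⊤ :=
    Subgroup.map_top_of_surjective _ (QuotientGroup.mk'_surjective N)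
  rw [h3] at h2
  have h4 : ⁅(⊤ : Subgroup G), ⊤⁆ = ⊤ := h
  rw [h4, h3] at h2
  exact h2.symm

end Cfsg.Agent.H25.Five
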