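import Cfsg.Agent.S2904

/-! Three primes theorem: numerology from Zsigmondy's theorem (piece A2 of S4847). -/

set_option autoImplicit false

namespace Cfsg.Agent.H25.PalA2

theorem prime_dvd {a p : ℕ} (ha : 1 ≤ a) (h : a ≡ 1 [MOD p]) : p ∣ a - 1 :=
  (Nat.modEq_iff_dvd' ha).1 h.symm

theorem case63 {k a p : ℕ} (hp : p.Prime) (hk : 0 < k) (hkn : k < 6) (ha : 2 ^ 6 - 1 = a * (2 ^ k - 1))
    (hap : a ≡ 1 [MOD p]) : p = 2 ∨ (7 ∣ a ∧ (p = 5 ∨ p = 31)) := by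
  have ha1 : 1 ≤ a := by
    rcases Nat.eq_zero_or_pos a with h | h
    · rw [h, zero_mul] at ha; norm_num at ha
    · exact h
  have hd := prime_dvd ha1 hap
  have hcases : a = 63 ∨ a = 21 ∨ a = 9 := by
    interval_cases k <;> norm_num at ha <;> omega
  rcases hcases with rfl | rfl | rfl
  · have h62 : p ∣ 2 * 31 := by simpa using hd
    rcases (Nat.Prime.dvd_mul hp).1 h62 with h | h
    · exact Or.inl ((Nat.prime_dvd_prime_iff_eq hp Nat.prime_two).1 h)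
    · exact Or.inr ⟨by norm_num, Or.inr ((Nat.prime_dvd_prime_iff_eq hp (by norm_num)).1 h)⟩
  · have h20 : p ∣ 2 ^ 2 * 5 := by simpa using hd
    rcases (Nat.Prime.dvd_mul hp).1 h20 with h | h
    · exact Or.inl ((Nat.prime_dvd_prime_iff_eq hp Nat.prime_two).1 (hp.dvd_of_dvd_pow h))
    · exact Or.inr ⟨by norm_num, Or.inl ((Nat.prime_dvd_prime_iff_eq hp (by norm_num)).1 h)⟩
  · have h8 : p ∣ 2 ^ 3 := by simpa using hd
    exact Or.inl ((Nat.prime_dvd_prime_iff_eq hp Nat.prime_two).1 (hp.dvd_of_dvd_pow h8))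

theorem case2 {s k a p : ℕ} (hs : s.Prime) (hp : p.Prime) (hk : 0 < k) (hkn : k < 2)
    (ha : s ^ 2 - 1 = a * (s ^ k - 1)) (hap : a ≡ 1 [MOD p]) : p = s := by
  have hk1 : k = 1 := by omega
  subst hk1
  have h2 := hs.two_le
  have h3 : s ^ 2 - 1 = (s + 1) * (s - 1) := by
    have := Nat.sq_sub_sq s 1
    rw [one_pow] at this
    exact this
  rw [pow_one, h3] at ha
  have h4 : s + 1 = a := Nat.eq_of_mul_eq_mul_right (by omega) ha
  subst h4
  have h5 := prime_dvd (by omega) hap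
  rw [Nat.add_sub_cancel] at h5
  exact (Nat.prime_dvd_prime_iff_eq hp hs).1 h5

theorem num {s n p q k l a b : ℕ} (hs : s.Prime) (hp : p.Prime) (hq : q.Prime) (hpq : p ≠ q)
    (hk : 0 < k) (hkn : k < n) (hl : 0 < l) (hln : l < n)
    (ha : s ^ n - 1 = a * (s ^ k - 1)) (hb : s ^ n - 1 = b * (s ^ l - 1))
    (hap : a ≡ 1 [MOD p]) (hbq : b ≡ 1 [MOD q]) :
    (∃ t : ℕ, t.Prime ∧ t ∣ a ∧ ¬ t ∣ s ∧ ∀ i, 0 < i → i < n → ¬ t ∣ s ^ i - 1) ∨
      (s = 2 ∧ n = 6 ∧ (7 ∣ a ∧ (p = 5 ∨ p = 31) ∨ 7 ∣ b ∧ (q = 5 ∨ q = 31))) := by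
  by_cases h6 : s = 2 ∧ n = 6
  · right
    obtain ⟨rfl, rfl⟩ := h6
    refine ⟨rfl, rfl, ?_⟩
    rcases case63 hp hk hkn ha hap with h | h
    · rcases case63 hq hl hln hb hbq with h' | h'
      · exact absurd (h.trans h'.symm) hpq
      · exact Or.inr h'
    · exact Or.inl h
  by_cases h2 : n = 2 ∧ ∃ m : ℕ, s + 1 = 2 ^ m
  · exfalso
    obtain ⟨rfl, -⟩ := h2
    exact hpq ((case2 hs hp hk hkn ha hap).trans (case2 hs hq hl hln hb hbq).symm)
  left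
  obtain ⟨t, ht, htd, htn⟩ := S2904.result s n hs.one_lt (by omega) h6 h2
  refine ⟨t, ht, ?_, ?_, htn⟩
  · rw [ha] at htd
    exact ((Nat.Prime.dvd_mul ht).1 htd).resolve_right (htn k hk hkn)
  · intro hts
    have h1 : t ∣ s ^ n := dvd_pow hts (by omega)
    have h3 : 1 ≤ s ^ n := Nat.one_le_pow _ _ hs.pos
    have h4 : t ∣ 1 := by
      have := Nat.dvd_sub h1 htd
      rwa [Nat.sub_sub_self h3] at this
    exact ht.one_lt.ne' (Nat.dvd_one.1 h4)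

end Cfsg.Agent.H25.PalA2
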