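import Cfsg.Agent.H25.PalDef
import Cfsg.Agent.H53.T1
import Cfsg.Agent.Char.PermLemma
import Cfsg.Agent.H25.FixedClasses

/-! S4847, piece A3 (helper78): a character moved by two commuting elements of prime orders. -/

set_option autoImplicit false
set_option linter.style.haveILetI false
set_option linter.unusedSectionVars false

namespace Cfsg.Agent.H25.PalA3

open Cfsg Cfsg.Agent.CharBase Cfsg.Agent.Char Cfsg.Agent.H75 Cfsg.Agent.H53.D3

universe u v

theorem card_moved {α : Type*} [Fintype α] (p q : α → Prop) [DecidablePred p] [DecidablePred q] :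
    (Finset.univ.filter (fun a => ¬ p a ∧ ¬ q a)).card + (Finset.univ.filter p).card + (Finset.univ.filter q).card =
      Fintype.card α + (Finset.univ.filter (fun a => p a ∧ q a)).card := by
  classical
  have h1 := Finset.card_union_add_card_inter (Finset.univ.filter p) (Finset.univ.filter q)
  rw [← Finset.filter_or, ← Finset.filter_and] at h1
  have h2 := Finset.card_filter_add_card_filter_not (s := (Finset.univ : Finset α)) (fun a => p a ∨ q a)
  have h3 : (Finset.univ.filter (fun a => ¬ (p a ∨ q a))) = Finset.univ.filter (fun a => ¬ p a ∧ ¬ q a) := by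
    ext a; simp
  rw [h3, Finset.card_univ] at h2
  omega

theorem nat_card_filter {α : Type*} [Fintype α] (p : α → Prop) [DecidablePred p] :
    Nat.card {a : α // p a} = (Finset.univ.filter p).card := by
  rw [Nat.card_eq_fintype_card, Fintype.card_subtype]

section

variable {H : Type u} [Group H] [Finite H] (L : Subgroup H) [hL : L.Normal]

/-- conjugation on `L` -/
def cf (x : H) : L → L := fun n => ⟨x * n * x⁻¹, hL.conj_mem (n : H) n.2 x⟩

theorem isConj_cf_iff (x : H) (l : L) : IsConj (cf L x l) l ↔ x ∈ L ⊔ Subgroup.centralizer ({(l : H)} : Set H) := by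
  rw [isConj_comm, isConj_iff, Subgroup.mem_sup_of_normal_left]
  constructor
  · rintro ⟨c, hc⟩
    have h1 : (c : H) * l * (c : H)⁻¹ = x * l * x⁻¹ := congrArg Subtype.val hc
    refine ⟨c, c.2, (c : H)⁻¹ * x, ?_, by group⟩
    rw [Subgroup.mem_centralizer_singleton_iff]
    calc (c : H)⁻¹ * x * l = (c : H)⁻¹ * (x * l * x⁻¹) * x := by group
      _ = (c : H)⁻¹ * ((c : H) * l * (c : H)⁻¹) * x := by rw [h1]
      _ = l * ((c : H)⁻¹ * x) := by group
  · rintro ⟨a, ha, c, hc, rfl⟩
    rw [Subgroup.mem_centralizer_singleton_iff] at hc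
    refine ⟨⟨a, ha⟩, ?_⟩
    apply Subtype.ext
    change a * (l : H) * a⁻¹ = a * c * l * (a * c)⁻¹
    rw [mul_inv_rev, mul_assoc a c, hc]
    group

theorem fixed_eq (x : H) :
    Nat.card {χ : IrrCharacter L // x ∈ inertia L (χ : L → ℂ)} =
      Nat.card {C : ConjClasses L // ∀ l, ConjClasses.mk l = C → x ∈ L ⊔ Subgroup.centralizer ({(l : H)} : Set H)} := by
  have h := Cfsg.Agent.Char.PL.card_fixed_irr_eq (G := L) (cf L x) (fun χ => isIrrCharacter_cj L x χ.2) (by
    intro g h hgh
    obtain ⟨c, hc⟩ := isConj_iff.1 hgh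
    refine isConj_iff.2 ⟨cf L x c, ?_⟩
    apply Subtype.ext
    have h1 : (c : H) * g * (c : H)⁻¹ = h := congrArg Subtype.val hc
    change (x * c * x⁻¹) * (x * g * x⁻¹) * (x * c * x⁻¹)⁻¹ = x * h * x⁻¹
    rw [← h1]
    group)
  have e1 : Nat.card {χ : IrrCharacter L // x ∈ inertia L (χ : L → ℂ)} =
      Nat.card {χ : IrrCharacter L // (fun g => (χ : L → ℂ) (cf L x g)) = χ} := by
    refine Nat.card_congr (Equiv.subtypeEquivRight fun χ => ?_)
    exact Iff.rfl
  have e2 : Nat.card {C : ConjClasses L // ∀ l, ConjClasses.mk l = C → x ∈ L ⊔ Subgroup.centralizer ({(l : H)} : Set H)} =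
      Nat.card {C : ConjClasses L // ∀ g, ConjClasses.mk g = C → IsConj (cf L x g) g} := by
    refine Nat.card_congr (Equiv.subtypeEquivRight fun C => ?_)
    constructor
    · intro h g hg
      exact (isConj_cf_iff L x g).2 (h g hg)
    · intro h g hg
      exact (isConj_cf_iff L x g).1 (h g hg)
  rw [e1, e2, h]

/-- powers: commuting elements of coprime orders lie in the subgroup generated by their product -/
theorem mem_of_mul_mem {p q : ℕ} (hpq : Nat.Coprime p q) {x y : H} (ox : orderOf x = p) (oy : orderOf y = q)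
    (hxy : x * y = y * x) (T : Subgroup H) (h : x * y ∈ T) : x ∈ T ∧ y ∈ T := by
  have hc : Commute x y := hxy
  have key : ∀ (x y : H) (p q : ℕ), Nat.Coprime p q → orderOf x = p → orderOf y = q → Commute x y → x * y ∈ T → x ∈ T := by
    intro x y p q hpq ox oy hc h
    obtain ⟨n, hn1, hn2⟩ := Nat.chineseRemainder hpq 1 0
    have h1 : (x * y) ^ n = x := by
      rw [hc.mul_pow]
      have h2 : x ^ n = x := by
        have : x ^ n = x ^ 1 := pow_eq_pow_iff_modEq.2 (by rw [ox]; exact hn1)
        rw [this, pow_one]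
      have h3 : y ^ n = 1 := by
        have : y ^ n = y ^ 0 := pow_eq_pow_iff_modEq.2 (by rw [oy]; exact hn2)
        rw [this, pow_zero]
      rw [h2, h3, mul_one]
    rw [← h1]; exact T.pow_mem h n
  exact ⟨key x y p q hpq ox oy hc h, key y x q p hpq.symm oy ox hc.symm (by rwa [← hxy])⟩

/-- an irreducible character of `L` moved by both -/
theorem exists_moved {p q : ℕ} (hpq : Nat.Coprime p q) {x y : H} (ox : orderOf x = p) (oy : orderOf y = q)
    (hxy : x * y = y * x) (z : L) (hx : x ∉ L ⊔ Subgroup.centralizer ({(z : H)} : Set H))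
    (hy : y ∉ L ⊔ Subgroup.centralizer ({(z : H)} : Set H)) :
    ∃ θ : IrrCharacter L, x ∉ inertia L (θ : L → ℂ) ∧ y ∉ inertia L (θ : L → ℂ) := by
  classical
  haveI := Fintype.ofFinite (IrrCharacter L)
  haveI : Finite (ConjClasses L) := Quotient.finite _
  haveI := Fintype.ofFinite (ConjClasses L)
  let f : H → IrrCharacter L → Prop := fun h χ => h ∈ inertia L (χ : L → ℂ)
  let g : H → ConjClasses L → Prop := fun h C => ∀ l, ConjClasses.mk l = C →
    h ∈ L ⊔ Subgroup.centralizer ({(l : H)} : Set H)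
  have h1 := card_moved (f x) (f y)
  have h2 := card_moved (g x) (g y)
  have h3 : (Finset.univ.filter (f x)).card = (Finset.univ.filter (g x)).card := by
    rw [← nat_card_filter, ← nat_card_filter]; exact fixed_eq L x
  have h4 : (Finset.univ.filter (f y)).card = (Finset.univ.filter (g y)).card := by
    rw [← nat_card_filter, ← nat_card_filter]; exact fixed_eq L y
  have h5 : (Finset.univ.filter (fun a => f x a ∧ f y a)).card = (Finset.univ.filter (fun a => g x a ∧ g y a)).card := by
    have e1 : (Finset.univ.filter (fun a => f x a ∧ f y a)) = Finset.univ.filter (f (x * y)) := by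
      ext a
      simp only [Finset.mem_filter, Finset.mem_univ, true_and]
      constructor
      · rintro ⟨h, h'⟩; exact Subgroup.mul_mem _ h h'
      · intro h; exact mem_of_mul_mem hpq ox oy hxy _ h
    have e2 : (Finset.univ.filter (fun a => g x a ∧ g y a)) = Finset.univ.filter (g (x * y)) := by
      ext a
      simp only [Finset.mem_filter, Finset.mem_univ, true_and]
      constructor
      · rintro ⟨h, h'⟩ l hl; exact Subgroup.mul_mem _ (h l hl) (h' l hl)
      · intro h
        exact ⟨fun l hl => (mem_of_mul_mem hpq ox oy hxy _ (h l hl)).1,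
          fun l hl => (mem_of_mul_mem hpq ox oy hxy _ (h l hl)).2⟩
    rw [e1, e2, ← nat_card_filter, ← nat_card_filter]; exact fixed_eq L (x * y)
  have h6 : Fintype.card (IrrCharacter L) = Fintype.card (ConjClasses L) := by
    rw [← Nat.card_eq_fintype_card, ← Nat.card_eq_fintype_card]
    exact card_irr_eq_card_conjClasses L
  have h7 : 0 < (Finset.univ.filter (fun a => ¬ g x a ∧ ¬ g y a)).card := by
    rw [Finset.card_pos]
    refine ⟨ConjClasses.mk z, ?_⟩
    rw [Finset.mem_filter]
    exact ⟨Finset.mem_univ _, fun h => hx (h z rfl), fun h => hy (h z rfl)⟩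
  have h8 : 0 < (Finset.univ.filter (fun a => ¬ f x a ∧ ¬ f y a)).card := by omega
  obtain ⟨θ, hθ⟩ := Finset.card_pos.1 h8
  rw [Finset.mem_filter] at hθ
  exact ⟨θ, hθ.2.1, hθ.2.2⟩

/-- the index of the inertia group -/
theorem dvd_index (M : Subgroup H) [hM : M.Normal] (hLM : L ≤ M) (hab : ∀ a ∈ M, ∀ b ∈ M, a * b * a⁻¹ * b⁻¹ ∈ L)
    (I : Subgroup H) (hLI : L ≤ I) {p : ℕ} (hp : p.Prime) {x : H} (hx : x ∈ M) (ox : orderOf x = p) (hxI : x ∉ I) :
    p ∣ I.index := by
  have hn : (I.subgroupOf M).Normal := by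
    constructor
    rintro ⟨n, hnM⟩ hn ⟨g, hgM⟩
    rw [Subgroup.mem_subgroupOf] at hn ⊢
    change g * n * g⁻¹ ∈ I
    have h1 := hLI (hab g hgM n hnM)
    have h2 := I.mul_mem h1 hn
    simpa using h2
  have h1 : p ∣ I.relIndex M := by
    by_contra hcon
    have h2 := Subgroup.pow_index_mem (I.subgroupOf M) (⟨x, hx⟩ : M)
    rw [Subgroup.mem_subgroupOf] at h2
    change x ^ (I.relIndex M) ∈ I at h2
    apply hxI
    have hc : Nat.Coprime (I.relIndex M) p := ((Nat.Prime.coprime_iff_not_dvd hp).2 hcon).symm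
    obtain ⟨n, hn1, hn2⟩ := Nat.chineseRemainder hc 0 1
    obtain ⟨m, hm⟩ := (Nat.modEq_zero_iff_dvd).1 hn1
    have h3 : x ^ n = x := by
      have : x ^ n = x ^ 1 := pow_eq_pow_iff_modEq.2 (by rw [ox]; exact hn2)
      rw [this, pow_one]
    rw [← h3, hm, pow_mul]
    exact I.pow_mem h2 m
  refine h1.trans ?_
  -- relIndex divides index as M is normal
  have e1 : (M ⊓ I).index = M.relIndex I * I.index := by
    rw [← Subgroup.inf_relIndex_right M I, Subgroup.relIndex_mul_index inf_le_right]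
  have e2 : (M ⊓ I).index = I.relIndex M * M.index := by
    rw [inf_comm, ← Subgroup.inf_relIndex_right I M, Subgroup.relIndex_mul_index inf_le_right]
  have e3 : M.index = M.relIndex I * (I ⊔ M).index := by
    rw [← Subgroup.relIndex_sup_left, sup_comm M I, Subgroup.relIndex_mul_index le_sup_right]
  have hpos : 0 < M.relIndex I := Nat.pos_of_ne_zero (Subgroup.index_ne_zero_of_finite)
  refine ⟨(I ⊔ M).index, ?_⟩
  apply Nat.eq_of_mul_eq_mul_left hpos
  rw [← e1, e2, e3]; ring

end

/-- [A3] -/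
theorem adj_of_moved {H : Type u} [Group H] [Finite H] (L M : Subgroup H) (hL : L.Normal) (hM : M.Normal)
    (hLM : L ≤ M) (hab : ∀ a ∈ M, ∀ b ∈ M, a * b * a⁻¹ * b⁻¹ ∈ L) {p q t : ℕ}
    (hp : p.Prime) (hq : q.Prime) (ht : t.Prime) (hpq : p ≠ q)
    (hpL : ¬ p ∣ Nat.card L) (hqL : ¬ q ∣ Nat.card L) {x y : H} (hx : x ∈ M) (hy : y ∈ M)
    (ox : orderOf x = p) (oy : orderOf y = q) (hxy : x * y = y * x) (htL : t ∣ Nat.card L)
    (hcx : ∀ z ∈ L, orderOf z = t → x * z ≠ z * x) (hcy : ∀ z ∈ L, orderOf z = t → y * z ≠ z * y) :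
    ∃ χ : IrrCharacter H, p * q ∣ charDegree (χ : H → ℂ) := by
  haveI := hL
  haveI := hM
  haveI : Fact t.Prime := ⟨ht⟩
  obtain ⟨z, hz⟩ := exists_prime_orderOf_dvd_card' (G := L) t htL
  have hzH : orderOf (z : H) = t := by rw [← hz]; exact Subgroup.orderOf_coe z
  have key : ∀ (x : H) (p : ℕ), p.Prime → orderOf x = p → ¬ p ∣ Nat.card L →
      (∀ z ∈ L, orderOf z = t → x * z ≠ z * x) → x ∉ L ⊔ Subgroup.centralizer ({(z : H)} : Set H) := by
    intro x p hp ox hpL hcx hmem
    rw [Subgroup.mem_sup_of_normal_left] at hmem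
    obtain ⟨a, ha, c, hc, hac⟩ := hmem
    rw [Subgroup.mem_centralizer_singleton_iff] at hc
    have hcop : Nat.Coprime (orderOf x) (Nat.card L) := by rw [ox]; exact (Nat.Prime.coprime_iff_not_dvd hp).2 hpL
    have e1 : a⁻¹ * x = c := by rw [← hac]; group
    obtain ⟨y, hy, hmem⟩ := exists_conj_comm_of_fixed L hcop z.2 (L.inv_mem ha) (by rw [e1]; exact hc)
    rw [Subgroup.mem_inf, Subgroup.mem_centralizer_singleton_iff] at hmem
    refine hcx _ hmem.1 ?_ hmem.2.symm
    rw [← hzH]
    have := (MulAut.conj y).toMonoidHom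
    have h2 := MulEquiv.orderOf_eq (MulAut.conj y) (z : H)
    rw [MulAut.conj_apply] at h2
    exact h2
  have hx' := key x p hp ox hpL hcx
  have hy' := key y q hq oy hqL hcy
  obtain ⟨θ, hθx, hθy⟩ := exists_moved L ((Nat.coprime_primes hp hq).2 hpq) ox oy hxy z hx' hy'
  obtain ⟨χ, hχ⟩ := exists_above L θ
  refine ⟨χ, ?_⟩
  rw [charDegree_eq_deg]
  have h1 := Over.inertia_dvd hχ
  refine Nat.Coprime.mul_dvd_of_dvd_of_dvd ((Nat.coprime_primes hp hq).2 hpq) ?_ ?_
  · exact ((dvd_index L M hLM hab _ (le_inertia' L θ) hp hx ox hθx).mul_right _).trans h1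
  · exact ((dvd_index L M hLM hab _ (le_inertia' L θ) hq hy oy hθy).mul_right _).trans h1

end Cfsg.Agent.H25.PalA3
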