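import Cfsg.Agent.H25.PalDef
import Cfsg.Agent.H53.T1

/-! S4847, piece B1 (helper78): `N` an abelian minimal normal `s`-subgroup, `s ≠ r`. -/

set_option autoImplicit false
set_option linter.style.haveILetI false
set_option linter.unusedSectionVars false
set_option linter.unusedVariables false

namespace Cfsg.Agent.H25.PalB1

open scoped commutatorElement
open Cfsg Cfsg.Agent.CharBase Cfsg.Agent.Char Cfsg.Agent.H75 Cfsg.Agent.H53.D3 Cfsg.Agent.H25.Pal

universe u v

theorem card_sup {G : Type u} [Group G] [Finite G] (A B : Subgroup G) [A.Normal] (h : A ⊓ B = ⊥) :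
    Nat.card ↥(A ⊔ B) = Nat.card A * Nat.card B := by
  have h1 : A.relIndex (A ⊔ B) = Nat.card B := by
    rw [Subgroup.relIndex_sup_left, ← Subgroup.inf_relIndex_right, h, Subgroup.relIndex_bot_left]
  have h2 := Subgroup.relIndex_mul_relIndex ⊥ A (A ⊔ B) bot_le le_sup_left
  rw [Subgroup.relIndex_bot_left, Subgroup.relIndex_bot_left, h1] at h2
  exact h2.symm

section

variable {G : Type u} [Group G] [Finite G] (N H : Subgroup G) [hN : N.Normal]

theorem dual_fix_iff (w : N →* ℂˣ) (g : H) :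
    dualAct N H g w = w ↔ (g : G) ∈ inertia N (linIrr w : N → ℂ) := by
  rw [← inv_mem_iff, mem_inertia_iff]
  constructor
  · intro h n
    have h1 := congrArg (fun f : N →* ℂˣ => f n) h
    simp only [dualAct_apply] at h1
    rw [linIrr_apply, linIrr_apply, ← h1]
    congr 3
    simp
  · intro h
    ext n
    have h1 := h n
    rw [linIrr_apply, linIrr_apply] at h1
    rw [← h1, dualAct_apply]
    congr 3
    simp

theorem fixP_of (hs : Group.IsSolvable G) {p r : ℕ} (hp : p.Prime) (hr : r.Prime) (hpr : p ≠ r)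
    (h1 : N ⊓ H = ⊥) (h2 : N ⊔ H = ⊤)
    (npr : ¬ ∃ χ : IrrCharacter G, p * r ∣ charDegree (χ : G → ℂ))
    (hT : ∀ w : N →* ℂˣ, w ≠ 1 → r ∣ (inertia N (linIrr w : N → ℂ)).index) : FixP (W := N →* ℂˣ) (dualAct N H) p := by
  intro w hw
  have hr' := hT w hw
  obtain ⟨T, hTdef⟩ : ∃ T : Subgroup G, T = inertia N (linIrr w : N → ℂ) := ⟨_, rfl⟩
  rw [← hTdef] at hr'
  have hNT : N ≤ T := by rw [hTdef]; exact le_inertia' N (linIrr w)
  have key : ∀ β : IrrCharacter ↥(H ⊓ T), ¬ p ∣ T.index * deg β := by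
    intro β hd
    obtain ⟨χ, -, hχ⟩ := compl_deg2 N H h1 h2 w T hTdef β
    apply npr
    refine ⟨χ, ?_⟩
    rw [charDegree_eq_deg, hχ]
    exact Nat.Coprime.mul_dvd_of_dvd_of_dvd ((Nat.coprime_primes hp hr).2 hpr) hd (hr'.mul_right _)
  obtain ⟨β0⟩ : Nonempty (IrrCharacter ↥(H ⊓ T)) := ⟨linIrr 1⟩
  have hpT : ¬ p ∣ T.index := fun h => key β0 (h.mul_right _)
  have hβ : ∀ β : IrrCharacter ↥(H ⊓ T), ¬ p ∣ charDegree (β : ↥(H ⊓ T) → ℂ) := by
    intro β h
    rw [charDegree_eq_deg] at h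
    exact key β (h.mul_left _)
  haveI : Group.IsSolvable ↥(H ⊓ T) := by
    haveI := hs
    infer_instance
  obtain ⟨P, hPn, hPab, hPp, hPi⟩ := (Cfsg.Agent.S4493.result (G := ↥(H ⊓ T)) this p hp).2 hβ
  let ι : ↥(H ⊓ T) →* ↥H := Subgroup.inclusion inf_le_left
  have hι : Function.Injective ι := Subgroup.inclusion_injective _
  have hidx : T.relIndex H = T.index := by
    have hsup : N ⊔ (H ⊓ T) = T := by
      apply le_antisymm (sup_le hNT inf_le_right)
      intro x hx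
      have hxt : x ∈ N ⊔ H := by rw [h2]; exact Subgroup.mem_top x
      rw [Subgroup.mem_sup_of_normal_left] at hxt ⊢
      obtain ⟨n, hn, h, hh, rfl⟩ := hxt
      refine ⟨n, hn, h, ⟨hh, ?_⟩, rfl⟩
      have := T.mul_mem (T.inv_mem (hNT hn)) hx
      simpa using this
    have c1 : Nat.card G = Nat.card N * Nat.card H := by
      rw [← card_sup N H h1, h2, Subgroup.card_top]
    have c2 : Nat.card T = Nat.card N * Nat.card ↥(H ⊓ T) := by
      have h3 : N ⊓ (H ⊓ T) = ⊥ := by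
        rw [eq_bot_iff, ← h1]; exact le_inf inf_le_left (inf_le_right.trans inf_le_left)
      rw [← card_sup N (H ⊓ T) h3, hsup]
    have c3 : Nat.card ↥(H ⊓ T) * T.relIndex H = Nat.card H := by
      have := Subgroup.relIndex_mul_relIndex ⊥ (T ⊓ H) H bot_le inf_le_right
      rw [Subgroup.relIndex_bot_left, Subgroup.relIndex_bot_left, Subgroup.inf_relIndex_right] at this
      rw [inf_comm]; exact this
    have c4 := Subgroup.card_mul_index T
    rw [c1, c2, ← c3] at c4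
    have hpos : 0 < Nat.card N * Nat.card ↥(H ⊓ T) := Nat.mul_pos Nat.card_pos Nat.card_pos
    apply Nat.eq_of_mul_eq_mul_left hpos
    rw [c4]; ring
  refine ⟨P.map ι, ⟨hPp.map ι, ?_⟩, ?_, ?_, ?_⟩
  · rw [Subgroup.index_map_of_injective _ hι, Subgroup.inclusion_range]
    intro hd
    rcases (Nat.Prime.dvd_mul hp).1 hd with hd | hd
    · exact hPi hd
    · apply hpT
      rw [← hidx]
      have : ((H ⊓ T).subgroupOf H).index = T.relIndex H := by
        rw [inf_comm]; exact Subgroup.inf_relIndex_right T H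
      rwa [this] at hd
  · rintro _ ⟨x, hx, rfl⟩ _ ⟨y, hy, rfl⟩
    rw [← map_mul, hPab x hx y hy, map_mul]
  · rintro _ ⟨x, hx, rfl⟩
    rw [dual_fix_iff, ← hTdef]
    exact x.2.2
  · intro g hg
    rw [dual_fix_iff, ← hTdef] at hg
    rintro _ ⟨x, hx, rfl⟩
    refine ⟨⟨(g : G), g.2, hg⟩ * x * ⟨(g : G), g.2, hg⟩⁻¹, hPn.conj_mem x hx _, ?_⟩
    apply Subtype.ext
    rfl

theorem not_nsyl (hs : Group.IsSolvable G) {p s : ℕ} (hp : p.Prime) (hsp : s.Prime)
    (h1 : N ⊓ H = ⊥) (h2 : N ⊔ H = ⊤) (hNs : IsPGroup s N) (hNab : ∀ x ∈ N, ∀ y ∈ N, x * y = y * x)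
    (hN1 : N ≠ ⊥) (hF : FixP (W := N →* ℂˣ) (dualAct N H) p) (rp : Rho G p) : ¬ NSyl H p := by
  rintro ⟨P0, hn, hP0p, hP0i⟩
  haveI : Fact p.Prime := ⟨hp⟩
  haveI := hn
  have hcomm : commutator N = ⊥ := by
    rw [commutator_eq_bot_iff_center_eq_top, Subgroup.eq_top_iff']
    intro x
    rw [Subgroup.mem_center_iff]
    intro y
    exact Subtype.ext (hNab y y.2 x x.2)
  have hw : ∀ w : N →* ℂˣ, w ≠ 1 → FixAt (dualAct N H) p w P0 := by
    intro w hw
    obtain ⟨P, hP⟩ := hF w hw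
    have e1 : P ⊔ P0 = P0 := (hP0p.toSylow hP0i).is_maximal' (hP.syl.1.to_sup_of_normal_right hP0p) le_sup_right
    have e2 : P ≤ P0 := by rw [← e1]; exact le_sup_left
    have e3 : P0 = P := (hP.syl.1.toSylow hP.syl.2).is_maximal' hP0p e2
    rwa [e3]
  -- P0 is abelian
  obtain ⟨n0, hn0, hn01⟩ := (Subgroup.ne_bot_iff_exists_ne_one).1 hN1 |>.elim (fun a ha => ⟨(a : G), a.2, fun h => ha (Subtype.ext h)⟩ :
    ∀ (a : N), a ≠ 1 → ∃ n : G, n ∈ N ∧ n ≠ 1)
  obtain ⟨w0, hw0⟩ := exists_hom_ne (H := N) (x := ⟨n0, hn0⟩) (by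
    rw [hcomm, Subgroup.mem_bot]; intro h; exact hn01 (congrArg Subtype.val h))
  have hw01 : w0 ≠ 1 := by rintro rfl; exact hw0 rfl
  have hP0ab := (hw w0 hw01).ab
  -- P0 centralizes N
  have hc : ∀ x ∈ P0, ∀ n ∈ N, (x : G) * n * (x : G)⁻¹ = n := by
    intro x hx n hn'
    by_contra hne
    let m : N := ⟨(x : G) * n * (x : G)⁻¹, hN.conj_mem n hn' x⟩ * (⟨n, hn'⟩ : N)⁻¹
    have hm : m ∉ commutator N := by
      rw [hcomm, Subgroup.mem_bot]
      intro h
      apply hne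
      have h3 : (x : G) * n * (x : G)⁻¹ * n⁻¹ = 1 := congrArg Subtype.val h
      exact mul_inv_eq_one.1 h3
    obtain ⟨w, hwm⟩ := exists_hom_ne hm
    have hw1 : w ≠ 1 := by rintro rfl; exact hwm rfl
    have h4 := (dual_fix_iff N H w x).1 ((hw w hw1).fx x hx)
    rw [mem_inertia_iff] at h4
    have h5 := h4 ⟨n, hn'⟩
    rw [linIrr_apply, linIrr_apply] at h5
    have h6 : w ⟨(x : G) * n * (x : G)⁻¹, hN.conj_mem n hn' x⟩ = w ⟨n, hn'⟩ := Units.ext h5
    apply hwm
    change w (⟨(x : G) * n * (x : G)⁻¹, hN.conj_mem n hn' x⟩ * (⟨n, hn'⟩ : N)⁻¹) = 1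
    rw [map_mul, map_inv, h6, mul_inv_cancel]
  -- the image Q of P0 in G is normal
  let Q : Subgroup G := P0.map H.subtype
  have hQn : Q.Normal := by
    constructor
    rintro _ ⟨x, hx, rfl⟩ g
    have hg : g ∈ N ⊔ H := by rw [h2]; exact Subgroup.mem_top g
    rw [Subgroup.mem_sup_of_normal_left] at hg
    obtain ⟨n, hn', h, hh, rfl⟩ := hg
    have h3 : (⟨h, hh⟩ : H) * x * (⟨h, hh⟩ : H)⁻¹ ∈ P0 := hn.conj_mem x hx _
    refine ⟨_, h3, ?_⟩
    have h4 := hc _ h3 n hn'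
    change h * (x : G) * h⁻¹ = n * h * (x : G) * (n * h)⁻¹
    change (h * (x : G) * h⁻¹) * n * (h * (x : G) * h⁻¹)⁻¹ = n at h4
    have h5 : (h * (x : G) * h⁻¹) * n = n * (h * (x : G) * h⁻¹) := by
      rw [← mul_inv_eq_iff_eq_mul]; exact h4
    calc h * (x : G) * h⁻¹ = (h * (x : G) * h⁻¹) * n * n⁻¹ := by group
      _ = n * (h * (x : G) * h⁻¹) * n⁻¹ := by rw [h5]
      _ = n * h * (x : G) * (n * h)⁻¹ := by group
  have hQcard : Nat.card Q = Nat.card P0 := Subgroup.card_map_of_injective H.subtype_injective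
  have hQp : IsPGroup p Q := hP0p.map _
  have hQab : ∀ x ∈ Q, ∀ y ∈ Q, x * y = y * x := by
    rintro _ ⟨x, hx, rfl⟩ _ ⟨y, hy, rfl⟩
    rw [← map_mul, hP0ab x hx y hy, map_mul]
  have c1 : Nat.card G = Nat.card N * Nat.card H := by
    rw [← card_sup N H h1, h2, Subgroup.card_top]
  have c2 := Subgroup.card_mul_index P0
  have hP0pos : 0 < Nat.card P0 := Nat.card_pos
  obtain ⟨χ, hχ⟩ := rp
  by_cases hps : p = s
  · -- N ⊔ Q
    subst hps
    have hNQ : N ⊓ Q = ⊥ := by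
      rw [eq_bot_iff, ← h1]
      refine le_inf inf_le_left (inf_le_right.trans ?_)
      rintro _ ⟨x, hx, rfl⟩; exact x.2
    have hci : ∀ x ∈ Q, ∀ n ∈ N, x * n = n * x := by
      rintro _ ⟨x, hx, rfl⟩ n hn'
      have := hc x hx n hn'
      rw [mul_inv_eq_iff_eq_mul] at this
      exact this
    refine (Cfsg.Agent.S4493.result hs p hp).1 ⟨N ⊔ Q, inferInstance, ?_, ?_, ?_⟩ χ hχ
    · intro x hx y hy
      rw [Subgroup.mem_sup_of_normal_left] at hx hy
      obtain ⟨n, hn', a, ha, rfl⟩ := hx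
      obtain ⟨n', hn'', b, hb, rfl⟩ := hy
      have k1 : Commute n n' := hNab n hn' n' hn''
      have k2 : Commute n b := (hci b hb n hn').symm
      have k3 : Commute a n' := hci a ha n' hn''
      have k4 : Commute a b := hQab a ha b hb
      exact ((k1.mul_right k2).mul_left (k3.mul_right k4)).eq
    · exact hNs.to_sup_of_normal_left hQp
    · intro hd
      have c3 := Subgroup.card_mul_index (N ⊔ Q)
      rw [card_sup N Q hNQ, hQcard, c1, ← c2] at c3
      have : (N ⊔ Q).index = P0.index := by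
        apply Nat.eq_of_mul_eq_mul_left (Nat.mul_pos (Nat.card_pos (α := N)) hP0pos)
        rw [c3]; ring
      rw [this] at hd
      exact hP0i hd
  · refine (Cfsg.Agent.S4493.result hs p hp).1 ⟨Q, hQn, hQab, hQp, ?_⟩ χ hχ
    intro hd
    have c3 := Subgroup.card_mul_index Q
    rw [hQcard, c1, ← c2] at c3
    have : Q.index = Nat.card N * P0.index := by
      apply Nat.eq_of_mul_eq_mul_left hP0pos
      rw [c3]; ring
    rw [this] at hd
    haveI : Fact s.Prime := ⟨hsp⟩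
    rcases (Nat.Prime.dvd_mul hp).1 hd with hd | hd
    · obtain ⟨k, hk⟩ := IsPGroup.iff_card.1 hNs
      rw [hk] at hd
      exact hps ((Nat.prime_dvd_prime_iff_eq hp hsp).1 (hp.dvd_of_dvd_pow hd))
    · exact hP0i hd

end

/-- [B1] -/
theorem caseA {G : Type u} [Group G] [Finite G] (hs : Group.IsSolvable G) {p q r s : ℕ}
    (hp : p.Prime) (hq : q.Prime) (hr : r.Prime) (hsp : s.Prime) (hpr : p ≠ r) (hqr : q ≠ r) (hsr : s ≠ r)
    (N : Subgroup G) [hN : N.Normal] (hNs : IsPGroup s N) (hNab : ∀ x ∈ N, ∀ y ∈ N, x * y = y * x)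
    (hmin : ∀ K : Subgroup G, K.Normal → K ≤ N → K = ⊥ ∨ K = N)
    (R : Subgroup G) (hR : Syl r R) (hRab : ∀ x ∈ R, ∀ y ∈ R, x * y = y * x) (hNR : (N ⊔ R).Normal)
    (rp : Rho G p) (rq : Rho G q) (rr : Rho G r)
    (npr : ¬ ∃ χ : IrrCharacter G, p * r ∣ charDegree (χ : G → ℂ))
    (nqr : ¬ ∃ χ : IrrCharacter G, q * r ∣ charDegree (χ : G → ℂ)) :
    ∃ H : Subgroup G, N ⊓ H = ⊥ ∧ N ⊔ H = ⊤ ∧ FixP (W := N →* ℂˣ) (dualAct N H) p ∧ FixP (W := N →* ℂˣ) (dualAct N H) q ∧
      ¬ NSyl H p ∧ ¬ NSyl H q := by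
  haveI : Fact r.Prime := ⟨hr⟩
  have hRn : ¬ R.Normal := by
    intro h
    obtain ⟨χ, hχ⟩ := rr
    exact (Cfsg.Agent.S4493.result hs r hr).1 ⟨R, h, hRab, hR.1, hR.2⟩ χ hχ
  let S : Sylow r G := hR.1.toSylow hR.2
  have hSR : (S : Subgroup G) = R := rfl
  let H : Subgroup G := Subgroup.normalizer (R : Set G)
  have hRH : R ≤ H := Subgroup.le_normalizer
  haveI := hNR
  have h2 : N ⊔ H = ⊤ := by
    have h3 := Sylow.normalizer_sup_eq_top' S (N := N ⊔ R) (show (S : Subgroup G) ≤ N ⊔ R from le_sup_right)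
    have h4 : Subgroup.normalizer ((S : Subgroup G) : Set G) = H := rfl
    rw [eq_top_iff, ← h3]
    refine sup_le ?_ (sup_le le_sup_left (hRH.trans le_sup_right))
    exact le_sup_right
  have hN1 : N ≠ ⊥ := by
    rintro rfl
    rw [bot_sup_eq] at hNR
    exact hRn hNR
  have hHtop : ¬ N ≤ H := by
    intro h
    apply hRn
    have h3 : H = ⊤ := by rw [← h2, sup_eq_right.2 h]
    exact Subgroup.normalizer_eq_top_iff.1 h3
  have h1 : N ⊓ H = ⊥ := by
    have hn : (N ⊓ H).Normal := by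
      constructor
      rintro x ⟨hxN, hxH⟩ g
      have hg : g ∈ H ⊔ N := by rw [sup_comm, h2]; exact Subgroup.mem_top g
      rw [Subgroup.mem_sup_of_normal_right] at hg
      obtain ⟨h, hh, n, hn', rfl⟩ := hg
      have h3 : h * n * x * (h * n)⁻¹ = h * x * h⁻¹ := by
        have := hNab n hn' x hxN
        rw [mul_inv_rev, mul_assoc h n x, this]; group
      rw [h3]
      exact ⟨hN.conj_mem x hxN h, H.mul_mem (H.mul_mem hh hxH) (H.inv_mem hh)⟩
    rcases hmin _ hn inf_le_left with h | h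
    · exact h
    · exact absurd (by rw [← h]; exact inf_le_right) hHtop
  -- `r` divides the indices of inertia groups
  have hT : ∀ w : N →* ℂˣ, w ≠ 1 → r ∣ (inertia N (linIrr w : N → ℂ)).index := by
    intro w hw
    by_contra hcon
    obtain ⟨T, hTdef⟩ : ∃ T : Subgroup G, T = inertia N (linIrr w : N → ℂ) := ⟨_, rfl⟩
    rw [← hTdef] at hcon
    have hNT : N ≤ T := by rw [hTdef]; exact le_inertia' N (linIrr w)
    -- R ≤ T
    have hRT : R ≤ T := by
      obtain ⟨c, hc⟩ := hR.1.nonempty_fixed_point_of_prime_not_dvd_card (G ⧸ T) hcon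
      induction c using QuotientGroup.induction_on with
      | _ g =>
        have hg : g ∈ H ⊔ N := by rw [sup_comm, h2]; exact Subgroup.mem_top g
        rw [Subgroup.mem_sup_of_normal_right] at hg
        obtain ⟨h, hh, n, hn', rfl⟩ := hg
        intro x hx
        -- h x h⁻¹ ∈ R
        have hx' : h * x * h⁻¹ ∈ R := (Subgroup.mem_normalizer_iff.1 hh x).1 hx
        have h3 := hc ⟨h * x * h⁻¹, hx'⟩
        have h4 : ((h * x * h⁻¹ * (h * n) : G) : G ⧸ T) = ((h * n : G) : G ⧸ T) := h3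
        have h5 := QuotientGroup.eq.1 h4.symm
        have h6 : (h * n)⁻¹ * (h * x * h⁻¹ * (h * n)) = n⁻¹ * x * n := by group
        rw [h6] at h5
        have h7 := T.mul_mem (T.mul_mem (hNT hn') h5) (T.inv_mem (hNT hn'))
        have h8 : n * (n⁻¹ * x * n) * n⁻¹ = x := by group
        rwa [h8] at h7
    -- the commutator group
    have hKn : (⁅N, N ⊔ R⁆ : Subgroup G).Normal := Subgroup.commutator_normal N (N ⊔ R)
    rcases hmin ⁅N, N ⊔ R⁆ hKn (Subgroup.commutator_le_left _ _) with h | h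
    · -- N centralizes R
      apply hHtop
      intro n hn'
      have hcom : ∀ x ∈ R, n * x = x * n := by
        intro x hx
        have h3 : ⁅n, x⁆ ∈ ⁅N, N ⊔ R⁆ := Subgroup.commutator_mem_commutator hn' (le_sup_right (a := N) hx)
        rw [h, Subgroup.mem_bot] at h3
        exact commutatorElement_eq_one_iff_mul_comm.1 h3
      change n ∈ Subgroup.normalizer (R : Set G)
      rw [Subgroup.mem_normalizer_iff]
      intro x
      constructor
      · intro hx
        rw [hcom x hx, mul_inv_cancel_right]; exact hx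
      · intro hx
        have h3 := hcom _ hx
        have h4 : n * x * n⁻¹ = x := by
          have : n⁻¹ * (n * (n * x * n⁻¹)) * n = n⁻¹ * ((n * x * n⁻¹) * n) * n := by rw [h3]
          have e1 : n⁻¹ * (n * (n * x * n⁻¹)) * n = n * x := by group
          have e2 : n⁻¹ * ((n * x * n⁻¹) * n) * n = x * n := by group
          rw [e1, e2] at this
          rw [this, mul_inv_cancel_right]
        rwa [h4] at hx
    · -- w is trivial
      apply hw
      have hNRT : N ⊔ R ≤ T := sup_le hNT hRT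
      have hker : ⁅N, N ⊔ R⁆ ≤ w.ker.map N.subtype := by
        rw [Subgroup.commutator_le]
        intro n hn' g hg
        have hgT := hNRT hg
        rw [hTdef, mem_inertia_iff] at hgT
        have h3 := hgT ⟨n⁻¹, N.inv_mem hn'⟩
        rw [linIrr_apply, linIrr_apply] at h3
        have h4 : w ⟨g * n⁻¹ * g⁻¹, hN.conj_mem _ (N.inv_mem hn') g⟩ = w ⟨n⁻¹, N.inv_mem hn'⟩ := Units.ext h3
        refine ⟨⟨n, hn'⟩ * ⟨g * n⁻¹ * g⁻¹, hN.conj_mem _ (N.inv_mem hn') g⟩, ?_, ?_⟩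
        · change w _ = 1
          rw [map_mul, h4, ← map_mul]
          have : (⟨n, hn'⟩ : N) * ⟨n⁻¹, N.inv_mem hn'⟩ = 1 := Subtype.ext (mul_inv_cancel n)
          rw [this, map_one]
        · change n * (g * n⁻¹ * g⁻¹) = ⁅n, g⁆
          rw [commutatorElement_def]; group
      ext n
      have hn' : (n : G) ∈ w.ker.map N.subtype := hker (by rw [h]; exact n.2)
      obtain ⟨m, hm, hmn⟩ := hn'
      have : m = n := Subtype.ext hmn
      rw [← this]
      have h9 : w m = 1 := hm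
      rw [h9]; rfl
  have f1 := fixP_of N H hs hp hr hpr h1 h2 npr hT
  have f2 := fixP_of N H hs hq hr hqr h1 h2 nqr hT
  exact ⟨H, h1, h2, f1, f2, not_nsyl N H hs hp hsp h1 h2 hNs hNab hN1 f1 rp,
    not_nsyl N H hs hq hsp h1 h2 hNs hNab hN1 f2 rq⟩

end Cfsg.Agent.H25.PalB1
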