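import Cfsg.Agent.H25.PalB2a

set_option autoImplicit false

/-!
S4847, piece B2.
-/

namespace Cfsg.Agent.H25.PalB2

open Cfsg Cfsg.Agent.CharBase Cfsg.Agent.Char Cfsg.Agent.H75 Cfsg.Agent.H53.D3 Cfsg.Agent.H25.Pal

universe u v

theorem hall_deg2 {G : Type u} [Group G] [Finite G] (L T : Subgroup G) [hL : L.Normal]
    (hcop : (Nat.card L).Coprime L.index)
    (θ : IrrCharacter L) (hT : T = inertia L (θ : L → ℂ)) (β : IrrCharacter (T ⧸ L.subgroupOf T)) :
    ∃ χ : IrrCharacter G, Over L χ θ ∧ deg χ = T.index * (deg β * deg θ) := by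
  classical
  haveI := Fintype.ofFinite G
  haveI := Fintype.ofFinite L
  have hLT : L ≤ T := by rw [hT]; exact le_inertia' L θ
  haveI := Fintype.ofFinite T
  let K : Subgroup T := L.subgroupOf T
  haveI : K.Normal := inferInstance
  let e : K ≃* L := Subgroup.subgroupOfEquivOfLe hLT
  let θ' : K → ℂ := (θ : L → ℂ) ∘ e
  have hθ' : IsIrrCharacter K θ' :=
    isIrrCharacter_comp_surjective θ.2 (e : K →* L) e.surjective
  have hcopK : (Nat.card K).Coprime K.index := by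
    have e1 : Nat.card K = Nat.card L := Nat.card_congr e.toEquiv
    have e2 : K.index ∣ L.index := Subgroup.relIndex_dvd_index_of_le hLT
    rw [e1]
    exact Nat.Coprime.coprime_dvd_right e2 hcop
  have hinv : ∀ g : T, Char.cj K g θ' = θ' := by
    intro g
    funext k
    rw [Char.cj_apply]
    have hg : (g : G) ∈ inertia L (θ : L → ℂ) := by rw [← hT]; exact g.2
    have h2 := congrFun (Char.mem_inertia L |>.mp hg) (e k)
    rw [Char.cj_apply] at h2
    simp only [θ', Function.comp]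
    rw [← h2]
    congr 1
  obtain ⟨η, hη, hηK⟩ := Glaub.exists_extension_of_hall K hcopK hθ' hinv
  have hηL : ∀ n : L, η ⟨n, hLT n.2⟩ = (θ : L → ℂ) n := fun n => hηK ⟨⟨n, hLT n.2⟩, n.2⟩
  have hηirr : IsIrrCharacter K (fun n : K => η n) := by
    have : (fun n : K => η n) = θ' := funext hηK
    rw [this]; exact hθ'
  obtain ⟨ψ, hψ, hψd⟩ := gallagher_mul K ⟨η, hη⟩ hηirr β
  have hd : deg (⟨η, hη⟩ : IrrCharacter T) = deg θ := by
    have h6 : ((deg (⟨η, hη⟩ : IrrCharacter T) : ℕ) : ℂ) = ((deg θ : ℕ) : ℂ) := by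
      rw [← deg_spec, ← deg_spec]
      exact hηL 1
    exact_mod_cast h6
  obtain ⟨χ, hχ, hd2⟩ := exists_inertia_deg2 L T θ hT hLT ψ (deg_pos β).ne' (by
    intro n
    rw [hψ]
    have h3 : (QuotientGroup.mk (⟨n, hLT n.2⟩ : T) : T ⧸ K) = 1 := (QuotientGroup.eq_one_iff _).2 n.2
    have h4 : (β : T ⧸ K → ℂ) (QuotientGroup.mk (⟨n, hLT n.2⟩ : T)) = (deg β : ℂ) := by
      rw [h3, deg_spec]
    rw [h4]
    congr 1
    exact hηL n)
  exact ⟨χ, hχ, by rw [hd2, hψd, hd]⟩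

theorem le_of_index {H : Type u} [Group H] [Finite H] {p : ℕ} [Fact p.Prime] (P J K : Subgroup H)
    (hPJ : P ≤ J) (hKJ : K ≤ J) (hP : IsPGroup p P) (hn : ∀ g ∈ J, ∀ x ∈ P, g * x * g⁻¹ ∈ P)
    (hK : ¬ p ∣ K.index) : P ≤ K := by
  classical
  let f : P →* J := Subgroup.inclusion hPJ
  letI : MulAction P (J ⧸ K.subgroupOf J) := MulAction.compHom _ f
  have hidx : ¬ p ∣ Nat.card (J ⧸ K.subgroupOf J) := by
    intro h
    exact hK (h.trans (Subgroup.relIndex_dvd_index_of_le hKJ))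
  obtain ⟨c, hc⟩ := hP.nonempty_fixed_point_of_prime_not_dvd_card (J ⧸ K.subgroupOf J) hidx
  obtain ⟨g, rfl⟩ := QuotientGroup.mk_surjective c
  intro y hy
  have hx : (g : H) * y * (g : H)⁻¹ ∈ P := hn g g.2 y hy
  have h1 := hc ⟨(g : H) * y * (g : H)⁻¹, hx⟩
  have h2 : (((f ⟨_, hx⟩) * g : J) : J ⧸ K.subgroupOf J) = (g : J ⧸ K.subgroupOf J) := h1
  rw [eq_comm, QuotientGroup.eq] at h2
  have h3 : ((g⁻¹ * (f ⟨_, hx⟩ * g) : J) : H) = y := by
    change (g : H)⁻¹ * (((g : H) * y * (g : H)⁻¹) * g) = y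
    group
  rw [Subgroup.mem_subgroupOf, h3] at h2
  exact h2

theorem surj_compl {G : Type u} [Group G] (R H : Subgroup G) [hR : R.Normal] (hRH : R ⊔ H = ⊤) :
    Function.Surjective ((QuotientGroup.mk' R).comp H.subtype) := by
  intro c
  obtain ⟨g, rfl⟩ := QuotientGroup.mk_surjective c
  have hg : g ∈ R ⊔ H := by rw [hRH]; trivial
  obtain ⟨r, hr, h, hh, rfl⟩ := Subgroup.mem_sup_of_normal_left.mp hg
  refine ⟨⟨h, hh⟩, ?_⟩
  change ((h : G) : G ⧸ R) = ((r * h : G) : G ⧸ R)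
  rw [QuotientGroup.eq]
  have := hR.conj_mem r hr h⁻¹
  rw [inv_inv, mul_assoc] at this
  exact this

theorem index_comap_compl {G : Type u} [Group G] (R H T : Subgroup G) [hR : R.Normal] (hRH : R ⊔ H = ⊤)
    (hRT : R ≤ T) : (T.comap H.subtype).index = T.index := by
  have h1 : T.comap H.subtype = (T.map (QuotientGroup.mk' R)).comap ((QuotientGroup.mk' R).comp H.subtype) := by
    rw [← Subgroup.comap_comap, Subgroup.comap_map_eq_self]
    rw [QuotientGroup.ker_mk']; exact hRT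
  rw [h1, Subgroup.index_comap_of_surjective _ (surj_compl R H hRH),
    Subgroup.index_map_eq _ (QuotientGroup.mk'_surjective R) (by rw [QuotientGroup.ker_mk']; exact hRT)]

theorem caseB {G : Type u} [Group G] [Finite G] (hs : Group.IsSolvable G) {p r : ℕ}
    (hp : p.Prime) (hr : r.Prime) (hpr : p ≠ r)
    (N : Subgroup G) [hN : N.Normal] (R H : Subgroup G) (hRn : R.Normal) (hR : Syl r R)
    (hRH : R ⊓ H = ⊥) (hRH' : R ⊔ H = ⊤) (hNR : N ≤ R) (hcen : ∀ x ∈ N, ∀ y ∈ R, x * y = y * x)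
    (hder : ⁅R, R⁆ = N)
    (npr : ¬ ∃ χ : IrrCharacter G, p * r ∣ charDegree (χ : G → ℂ)) :
    ∀ ζ : N →* ℂˣ, ζ ≠ 1 → ∃ P : Subgroup H, FixAt (dualAct N H) p ζ P ∧
      ∀ z ∈ R, (∀ g ∈ R, ∀ h : z * g * z⁻¹ * g⁻¹ ∈ N, ζ ⟨z * g * z⁻¹ * g⁻¹, h⟩ = 1) →
        ∀ x ∈ P, (x : G) * z * (x : G)⁻¹ * z⁻¹ ∈ N := by
  classical
  intro ζ hζ
  haveI := hRn
  haveI : Fact p.Prime := ⟨hp⟩
  haveI : Fact r.Prime := ⟨hr⟩
  haveI := hs
  obtain ⟨k, hk⟩ := (IsPGroup.iff_card.mp hR.1)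
  have hcopR : (Nat.card R).Coprime R.index := by
    rw [hk]
    exact Nat.Coprime.pow_left _ ((Nat.Prime.coprime_iff_not_dvd hr).2 hR.2)
  -- linear characters of `R` are trivial on `N`
  have hNcom : ∀ (φ : R →* ℂˣ) (n : G) (hn : n ∈ N), φ ⟨n, hNR hn⟩ = 1 := by
    intro φ n hn
    have h1 : N ≤ (φ.ker).map R.subtype := by
      rw [← hder, ← Subgroup.map_subtype_commutator]
      exact Subgroup.map_mono (Abelianization.commutator_subset_ker φ)
    obtain ⟨x, hx, hxn⟩ := h1 hn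
    have h2 : x = ⟨n, hNR hn⟩ := Subtype.ext hxn
    rw [← h2]; exact hx
  let Ov : IrrCharacter R → Prop := fun θ => ∀ (n : G) (hn : n ∈ N),
    (θ : R → ℂ) ⟨n, hNR hn⟩ = (deg θ : ℂ) * (ζ ⟨n, hn⟩ : ℂ)
  have hr_deg : ∀ θ, Ov θ → r ∣ deg θ := by
    intro θ hθ
    have h1 : deg θ ∣ r ^ k := hk ▸ deg_dvd θ
    obtain ⟨j, hj, hj2⟩ := (Nat.dvd_prime_pow hr).1 h1
    rcases Nat.eq_zero_or_pos j with h0 | h0
    · exfalso
      rw [h0, pow_zero] at hj2
      obtain ⟨φ, rfl⟩ := linIrr_surj θ hj2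
      apply hζ
      ext ⟨n, hn⟩
      have h2 := hθ n hn
      rw [linIrr_apply, hNcom φ n hn, deg_linIrr] at h2
      simpa using h2.symm
    · rw [hj2]; exact dvd_pow_self r h0.ne'
  have hidx : ∀ θ, Ov θ → ¬ p ∣ (inertia R (θ : R → ℂ)).index := by
    intro θ hθ hdvd
    obtain ⟨χ, hχ⟩ := exists_above R θ
    apply npr
    refine ⟨χ, ?_⟩
    rw [charDegree_eq_deg]
    exact (mul_dvd_mul hdvd (hr_deg θ hθ)).trans (Over.inertia_dvd hχ)
  -- the stabilizer of `ζ` in `H`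
  let J : Subgroup H := (inertia N (linIrr ζ : N → ℂ)).comap H.subtype
  have hJ : ∀ h : H, h ∈ J ↔ ∀ (n : G) (hn : n ∈ N), ζ ⟨h * n * (h : G)⁻¹, hN.conj_mem n hn h⟩ = ζ ⟨n, hn⟩ := by
    intro h
    change (h : G) ∈ inertia N (linIrr ζ : N → ℂ) ↔ _
    rw [mem_inertia_iff]
    constructor
    · intro h1 n hn
      exact Units.ext (h1 ⟨n, hn⟩)
    · intro h1 n
      rw [linIrr_apply, linIrr_apply, h1 n n.2]
  have hdual : ∀ h : H, dualAct N H h ζ = ζ ↔ h ∈ J := by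
    intro h
    rw [← inv_mem_iff (H := J), hJ]
    constructor
    · intro h1 n hn
      have h2 := DFunLike.congr_fun h1 ⟨n, hn⟩
      rw [dualAct_apply] at h2
      rw [← h2]
      congr 1
      apply Subtype.ext
      exact congrArg (fun t => (h : G)⁻¹ * n * t) (inv_inv (h : G))
    · intro h1
      apply MonoidHom.ext
      rintro ⟨n, hn⟩
      rw [dualAct_apply, ← h1 n hn]
      congr 1
      apply Subtype.ext
      exact (congrArg (fun t => (h : G)⁻¹ * n * t) (inv_inv (h : G))).symm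
  -- the invariant character
  let a : J →* MulAut R := (MulAut.conjNormal : G →* MulAut R).comp (H.subtype.comp J.subtype)
  have ha : ∀ (h : J) (x : R), ((a h x : R) : G) = ((h : H) : G) * x * ((h : H) : G)⁻¹ := by
    intro h x
    exact MulAut.conjNormal_apply _ _
  let NR : Subgroup R := N.subgroupOf R
  let iN : NR →* N :=
    { toFun := fun x => ⟨((x : R) : G), x.2⟩
      map_one' := rfl
      map_mul' := fun _ _ => rfl }
  have hd : ∀ x y : R, x * y * x⁻¹ * y⁻¹ ∈ NR := by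
    intro x y
    change ((x * y * x⁻¹ * y⁻¹ : R) : G) ∈ N
    rw [← hder]
    exact Subgroup.commutator_mem_commutator x.2 y.2
  have hc : ∀ n ∈ NR, ∀ g : R, n * g = g * n := by
    intro n hn g
    exact Subtype.ext (hcen n hn g g.2)
  have haN : ∀ h : J, ∀ n ∈ NR, a h n ∈ NR := by
    intro h n hn
    change ((a h n : R) : G) ∈ N
    rw [ha]
    exact hN.conj_mem _ hn _
  have hcopJ : (Nat.card J).Coprime (Nat.card NR) := by
    have h1 : Nat.card J ∣ R.index := by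
      refine (Subgroup.card_subgroup_dvd_card J).trans ?_
      have hinj : Function.Injective ((QuotientGroup.mk' R).comp H.subtype) := by
        rw [injective_iff_map_eq_one]
        intro x hx
        have h2 : (x : G) ∈ R := (QuotientGroup.eq_one_iff _).1 hx
        have h3 : (x : G) ∈ R ⊓ H := ⟨h2, x.2⟩
        rw [hRH] at h3
        exact Subtype.ext h3
      exact Subgroup.card_dvd_of_injective _ hinj
    have h2 : Nat.card NR ∣ Nat.card R := Subgroup.card_subgroup_dvd_card _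
    exact (Nat.Coprime.coprime_dvd_left h1 (Nat.Coprime.coprime_dvd_right h2 hcopR.symm))
  obtain ⟨θ0, hθ0N, hθ0i, hθ0z⟩ := exists_inv NR hd (ζ.comp iN) hc a haN (by
    intro h n hn
    have h1 := (hJ h).1 h.2 n hn
    refine Eq.trans ?_ h1
    change ζ _ = ζ _
    congr 1) hcopJ
  have hOv0 : Ov θ0 := fun n hn => hθ0N ⟨n, hNR hn⟩ hn
  -- inertia groups
  have hle : ∀ θ, Ov θ → (inertia R (θ : R → ℂ)).comap H.subtype ≤ J := by
    intro θ hθ h hh
    rw [hJ]
    intro n hn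
    have h1 : (h : G) ∈ inertia R (θ : R → ℂ) := hh
    rw [mem_inertia_iff] at h1
    have h2 := h1 ⟨n, hNR hn⟩
    have h3 : (deg θ : ℂ) * ((ζ ⟨h * n * (h : G)⁻¹, hN.conj_mem n hn h⟩ : ℂˣ) : ℂ) = (deg θ : ℂ) * ((ζ ⟨n, hn⟩ : ℂˣ) : ℂ) := by
      rw [← hθ n hn, ← hθ _ (hN.conj_mem n hn h)]
      exact h2
    have hdeg : (deg θ : ℂ) ≠ 0 := by
      exact_mod_cast (deg_pos θ).ne'
    exact Units.ext (mul_left_cancel₀ hdeg h3)
  let T := inertia R (θ0 : R → ℂ)
  have hRT : R ≤ T := le_inertia' R θ0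
  have hJT : T.comap H.subtype = J := by
    refine le_antisymm (hle θ0 hOv0) ?_
    intro h hh
    change (h : G) ∈ inertia R (θ0 : R → ℂ)
    rw [mem_inertia_iff]
    intro n
    have h1 := hθ0i ⟨h, hh⟩ n
    rw [← h1]
    congr 1
  have hTidx : ¬ p ∣ T.index := hidx θ0 hOv0
  have hJidx : ¬ p ∣ J.index := by
    rw [← hJT, index_comap_compl R H T hRH' hRT]; exact hTidx
  let K : Subgroup T := R.subgroupOf T
  obtain ⟨P1, hP1n, hP1ab, hP1p, hP1i⟩ := (S4493.result (G := T ⧸ K) inferInstance p hp).2 (by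
    intro β hβ
    rw [charDegree_eq_deg] at hβ
    obtain ⟨χ, -, hχ⟩ := hall_deg2 R T hcopR θ0 rfl β
    apply npr
    refine ⟨χ, ?_⟩
    rw [charDegree_eq_deg, hχ]
    exact (mul_dvd_mul hβ (hr_deg θ0 hOv0)).trans (Dvd.intro_left _ rfl))
  have hmemT : ∀ h : J, ((h : H) : G) ∈ T := by
    intro h
    have h1 : (h : H) ∈ T.comap H.subtype := by rw [hJT]; exact h.2
    exact h1
  let f : J →* T ⧸ K := (QuotientGroup.mk' K).comp
    { toFun := fun h => (⟨((h : H) : G), hmemT h⟩ : T)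
      map_one' := rfl
      map_mul' := fun _ _ => rfl }
  have hf : ∀ h : J, f h = QuotientGroup.mk (⟨((h : H) : G), hmemT h⟩ : T) := fun _ => rfl
  have hfi : Function.Injective f := by
    rw [injective_iff_map_eq_one]
    intro h hh
    rw [hf, QuotientGroup.eq_one_iff] at hh
    have h2 : ((h : H) : G) ∈ R := hh
    have h3 : ((h : H) : G) ∈ R ⊓ H := ⟨h2, (h : H).2⟩
    rw [hRH] at h3
    exact Subtype.ext (Subtype.ext h3)
  have hfs : Function.Surjective f := by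
    intro c
    obtain ⟨t, rfl⟩ := QuotientGroup.mk_surjective c
    have hg : (t : G) ∈ R ⊔ H := by rw [hRH']; trivial
    obtain ⟨x, hx, h, hh, hxh⟩ := Subgroup.mem_sup_of_normal_left.mp hg
    have hT2 : h ∈ T := by
      have : h = x⁻¹ * (t : G) := by rw [← hxh]; group
      rw [this]; exact T.mul_mem (T.inv_mem (hRT hx)) t.2
    have hJ2 : (⟨h, hh⟩ : H) ∈ J := by
      rw [← hJT]; exact hT2
    refine ⟨⟨⟨h, hh⟩, hJ2⟩, ?_⟩
    rw [hf, QuotientGroup.eq]
    change h⁻¹ * (t : G) ∈ R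
    rw [← hxh]
    have := hRn.conj_mem x hx h⁻¹
    rw [inv_inv, mul_assoc] at this
    exact this
  let P : Subgroup H := (P1.comap f).map J.subtype
  have hPJ : P ≤ J := Subgroup.map_subtype_le _
  have hPm : ∀ h : J, (h : H) ∈ P ↔ f h ∈ P1 := by
    intro h
    constructor
    · rintro ⟨y, hy, hyh⟩
      have : y = h := Subtype.ext hyh
      rw [← this]; exact hy
    · intro hh
      exact ⟨h, hh, rfl⟩
  have hPp : IsPGroup p P := by
    refine IsPGroup.map ?_ _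
    exact hP1p.comap_of_injective f hfi
  have hPn : ∀ g ∈ J, ∀ x ∈ P, g * x * g⁻¹ ∈ P := by
    intro g hg x hx
    have h1 := (hPm ⟨x, hPJ hx⟩).1 hx
    have h2 := (hPm (⟨g, hg⟩ * ⟨x, hPJ hx⟩ * ⟨g, hg⟩⁻¹)).2 (by
      rw [map_mul, map_mul, map_inv]
      exact hP1n.conj_mem _ h1 _)
    exact h2
  refine ⟨P, ⟨⟨hPp, ?_⟩, ?_, ?_, ?_⟩, ?_⟩
  · -- index
    change ¬ p ∣ ((P1.comap f).map J.subtype).index
    rw [Subgroup.index_map_subtype, Subgroup.index_comap_of_surjective _ hfs]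
    intro h
    rcases hp.dvd_mul.1 h with h1 | h1
    · exact hP1i h1
    · exact hJidx h1
  · intro x hx y hy
    have h1 := hP1ab _ ((hPm ⟨x, hPJ hx⟩).1 hx) _ ((hPm ⟨y, hPJ hy⟩).1 hy)
    rw [← map_mul, ← map_mul] at h1
    exact congrArg (fun z : J => (z : H)) (hfi h1)
  · intro x hx
    exact (hdual x).2 (hPJ hx)
  · intro g hg x hx
    exact hPn g ((hdual g).1 hg) x hx
  · -- second part
    have hPfix : ∀ θ, Ov θ → ∀ x ∈ P, ∀ y : R, (θ : R → ℂ) ⟨x * y * (x : G)⁻¹, hRn.conj_mem y y.2 x⟩ = (θ : R → ℂ) y := by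
      intro θ hθ x hx y
      have hRθ : R ≤ inertia R (θ : R → ℂ) := le_inertia' R θ
      have h1 := le_of_index P J ((inertia R (θ : R → ℂ)).comap H.subtype) hPJ (hle θ hθ) hPp hPn (by
        rw [index_comap_compl R H _ hRH' hRθ]; exact hidx θ hθ)
      have h2 : (x : G) ∈ inertia R (θ : R → ℂ) := h1 hx
      rw [mem_inertia_iff] at h2
      exact h2 y
    intro z hz hzg x hx
    have hz0 : (θ0 : R → ℂ) ⟨z, hz⟩ ≠ 0 := by
      apply hθ0z
      intro y
      have := hzg y y.2 (hd ⟨z, hz⟩ y)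
      exact this
    have hlam : ∀ φ : R →* ℂˣ, φ ⟨x * z * (x : G)⁻¹, hRn.conj_mem z hz x⟩ = φ ⟨z, hz⟩ := by
      intro φ
      obtain ⟨ψ, hψ, hψd⟩ := exists_lin_mul θ0 φ
      have hOvψ : Ov ψ := by
        intro n hn
        rw [hψ, hNcom φ n hn, hψd, Units.val_one, one_mul]
        exact hOv0 n hn
      have h1 := hPfix ψ hOvψ x hx ⟨z, hz⟩
      have h2 := hPfix θ0 hOv0 x hx ⟨z, hz⟩
      rw [hψ, hψ, h2] at h1
      exact Units.ext (mul_right_cancel₀ hz0 h1)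
    -- conclude
    set w : R := ⟨x * z * (x : G)⁻¹, hRn.conj_mem z hz x⟩ * ⟨z, hz⟩⁻¹ with hw
    have hwφ : ∀ φ : R →* ℂˣ, φ w = 1 := by
      intro φ
      rw [hw, map_mul, map_inv, hlam φ, mul_inv_cancel]
    have hwc : w ∈ commutator R := by
      by_contra hcon
      have h1 : Abelianization.of w ≠ 1 := by
        intro h2
        exact hcon ((QuotientGroup.eq_one_iff w).1 h2)
      obtain ⟨φ, hφ⟩ := CommGroup.exists_apply_ne_one_of_hasEnoughRootsOfUnity (Abelianization R) ℂ h1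
      exact hφ (hwφ (φ.comp Abelianization.of))
    have h5 : (w : G) ∈ N := by
      rw [← hder, ← Subgroup.map_subtype_commutator]
      exact Subgroup.mem_map_of_mem _ hwc
    exact h5

end Cfsg.Agent.H25.PalB2
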