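import Cfsg.Agent.H25.PalDef
import Cfsg.Agent.H53.T1
import Cfsg.Agent.H76.AlperinDade2

set_option autoImplicit false

/-!
S4847, piece B2: invariant characters over a central linear character.
-/

namespace Cfsg.Agent.H25.PalB2

open Cfsg Cfsg.Agent.CharBase Cfsg.Agent.Char Cfsg.Agent.H75 Cfsg.Agent.H53.D3

universe u v

theorem extHom {A B : Type*} [CommGroup A] [Finite A] [Group B] (κ : B →* A)
    (hκ : Function.Injective κ) (f : B →* ℂˣ) : ∃ F : A →* ℂˣ, ∀ b, F (κ b) = f b := by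
  obtain ⟨F, hF⟩ := MonoidHom.domRestrict_surjective ℂ κ.range (f.comp (MonoidHom.ofInjective hκ).symm.toMonoidHom)
  refine ⟨F, fun b => ?_⟩
  have h1 := DFunLike.congr_fun hF (MonoidHom.ofInjective hκ b)
  have h2 : F (κ b) = f ((MonoidHom.ofInjective hκ).symm (MonoidHom.ofInjective hκ b)) := h1
  rwa [MulEquiv.symm_apply_apply] at h2

section
variable {R : Type u} [Group R] (N : Subgroup R) (hd : ∀ x y : R, x * y * x⁻¹ * y⁻¹ ∈ N)
  (ζ : N →* ℂˣ)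

/-- the commutator pairing -/
noncomputable def kap (x y : R) : ℂˣ := ζ ⟨x * y * x⁻¹ * y⁻¹, hd x y⟩

theorem kap_mul_left (hc : ∀ n ∈ N, ∀ g : R, n * g = g * n) (x x' y : R) :
    kap N hd ζ (x * x') y = kap N hd ζ x y * kap N hd ζ x' y := by
  unfold kap
  rw [← map_mul]
  congr 1
  apply Subtype.ext
  change x * x' * y * (x * x')⁻¹ * y⁻¹ = (x * y * x⁻¹ * y⁻¹) * (x' * y * x'⁻¹ * y⁻¹)
  have h := hc _ (hd x' y) (y * x⁻¹ * y⁻¹)
  calc x * x' * y * (x * x')⁻¹ * y⁻¹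
      = x * ((x' * y * x'⁻¹ * y⁻¹) * (y * x⁻¹ * y⁻¹)) := by group
    _ = x * ((y * x⁻¹ * y⁻¹) * (x' * y * x'⁻¹ * y⁻¹)) := by rw [h]
    _ = _ := by group

theorem kap_one_left (y : R) : kap N hd ζ 1 y = 1 := by
  unfold kap
  rw [← map_one ζ]
  congr 1
  apply Subtype.ext
  change 1 * y * 1⁻¹ * y⁻¹ = 1
  group

theorem kap_symm (x y : R) : kap N hd ζ x y = (kap N hd ζ y x)⁻¹ := by
  unfold kap
  rw [← map_inv]
  congr 1
  apply Subtype.ext
  change x * y * x⁻¹ * y⁻¹ = (y * x * y⁻¹ * x⁻¹)⁻¹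
  group

/-- the radical -/
def Z (hc : ∀ n ∈ N, ∀ g : R, n * g = g * n) : Subgroup R where
  carrier := {z | ∀ y, kap N hd ζ z y = 1}
  one_mem' := fun y => kap_one_left N hd ζ y
  mul_mem' := by
    intro a b ha hb y
    rw [kap_mul_left N hd ζ hc, ha y, hb y, one_mul]
  inv_mem' := by
    intro a ha y
    have h := kap_mul_left N hd ζ hc a⁻¹ a y
    rw [inv_mul_cancel, kap_one_left, ha y, mul_one] at h
    exact h.symm

theorem mem_Z (hc : ∀ n ∈ N, ∀ g : R, n * g = g * n) (z : R) :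
    z ∈ Z N hd ζ hc ↔ ∀ y, kap N hd ζ z y = 1 := Iff.rfl

theorem N_le_Z (hc : ∀ n ∈ N, ∀ g : R, n * g = g * n) : N ≤ Z N hd ζ hc := by
  intro n hn y
  unfold kap
  rw [← map_one ζ]
  congr 1
  apply Subtype.ext
  change n * y * n⁻¹ * y⁻¹ = 1
  rw [hc n hn y]; group

theorem Z_normal (hc : ∀ n ∈ N, ∀ g : R, n * g = g * n) : (Z N hd ζ hc).Normal := by
  constructor
  intro z hz g
  have h1 : g * z * g⁻¹ = (g * z * g⁻¹ * z⁻¹) * z := by group
  rw [h1]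
  exact Subgroup.mul_mem _ (N_le_Z N hd ζ hc (hd g z)) hz

/-- `ζ` extends to the radical -/
theorem exists_ext [Finite R] (hc : ∀ n ∈ N, ∀ g : R, n * g = g * n) :
    ∃ μ : Z N hd ζ hc →* ℂˣ, ∀ (n : R) (hn : n ∈ N), μ ⟨n, N_le_Z N hd ζ hc hn⟩ = ζ ⟨n, hn⟩ := by
  classical
  let ZZ := Z N hd ζ hc
  have hNZ : N ≤ ZZ := N_le_Z N hd ζ hc
  let j : N →* ZZ := Subgroup.inclusion hNZ
  let K : Subgroup ZZ := ζ.ker.map j
  have hK : ∀ k : ZZ, k ∈ K ↔ ∃ hn : (k : R) ∈ N, ζ ⟨k, hn⟩ = 1 := by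
    intro k
    constructor
    · rintro ⟨n, hn, rfl⟩
      exact ⟨n.2, hn⟩
    · rintro ⟨hn, h⟩
      exact ⟨⟨k, hn⟩, h, rfl⟩
  haveI : K.Normal := by
    constructor
    intro k hk g
    obtain ⟨hn, h⟩ := (hK k).1 hk
    have h1 : g * k * g⁻¹ = k := by
      apply Subtype.ext
      change (g : R) * k * (g : R)⁻¹ = k
      rw [← hc _ hn g]; group
    rw [h1]; exact hk
  have hcomm : ∀ a b : ZZ ⧸ K, a * b = b * a := by
    intro a b
    obtain ⟨x, rfl⟩ := QuotientGroup.mk_surjective a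
    obtain ⟨y, rfl⟩ := QuotientGroup.mk_surjective b
    change ((x * y : ZZ) : ZZ ⧸ K) = ((y * x : ZZ) : ZZ ⧸ K)
    rw [QuotientGroup.eq, hK]
    have h2 : (((x * y)⁻¹ * (y * x) : ZZ) : R) = (y : R)⁻¹ * (x : R)⁻¹ * (y : R)⁻¹⁻¹ * (x : R)⁻¹⁻¹ := by
      change ((x : R) * y)⁻¹ * ((y : R) * x) = _
      group
    have h3 := (ZZ.inv_mem y.2 : (y : R)⁻¹ ∈ ZZ) (x : R)⁻¹
    refine ⟨by rw [h2]; exact hd _ _, ?_⟩
    rw [← h3]
    unfold kap
    congr 1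
    exact Subtype.ext h2
  letI : CommGroup (ZZ ⧸ K) := { (inferInstance : Group (ZZ ⧸ K)) with mul_comm := hcomm }
  let κ : N ⧸ ζ.ker →* ZZ ⧸ K := QuotientGroup.map ζ.ker K j (fun n hn => ⟨n, hn, rfl⟩)
  have hκ : Function.Injective κ := by
    rw [injective_iff_map_eq_one]
    intro a ha
    obtain ⟨n, rfl⟩ := QuotientGroup.mk_surjective a
    have h1 : ((j n : ZZ) : ZZ ⧸ K) = 1 := ha
    rw [QuotientGroup.eq_one_iff, hK] at h1
    obtain ⟨hn, h2⟩ := h1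
    exact (QuotientGroup.eq_one_iff n).2 h2
  obtain ⟨F, hF⟩ := extHom κ hκ (QuotientGroup.kerLift ζ)
  refine ⟨F.comp (QuotientGroup.mk' K), fun n hn => ?_⟩
  exact hF ((⟨n, hn⟩ : N) : N ⧸ ζ.ker)

/-- an invariant irreducible character over `ζ` -/
theorem exists_inv [Finite R] (hc : ∀ n ∈ N, ∀ g : R, n * g = g * n) {I : Type v} [Group I] [Finite I]
    (a : I →* MulAut R) (haN : ∀ h : I, ∀ n ∈ N, a h n ∈ N)
    (haζ : ∀ (h : I) (n : R) (hn : n ∈ N), ζ ⟨a h n, haN h n hn⟩ = ζ ⟨n, hn⟩)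
    (hcop : (Nat.card I).Coprime (Nat.card N)) :
    ∃ θ : IrrCharacter R, (∀ (n : R) (hn : n ∈ N), (θ : R → ℂ) n = (deg θ : ℂ) * (ζ ⟨n, hn⟩ : ℂ)) ∧
      (∀ (h : I) (x : R), (θ : R → ℂ) (a h x) = (θ : R → ℂ) x) ∧
      ∀ z : R, (∀ y, kap N hd ζ z y = 1) → (θ : R → ℂ) z ≠ 0 := by
  classical
  haveI := Fintype.ofFinite I
  haveI := Fintype.ofFinite R
  let ZZ := Z N hd ζ hc
  have hNZ : N ≤ ZZ := N_le_Z N hd ζ hc
  haveI : ZZ.Normal := Z_normal N hd ζ hc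
  haveI := Fintype.ofFinite ZZ
  obtain ⟨μ, hμ⟩ := exists_ext N hd ζ hc
  have hkap : ∀ (h : I) (x y : R), kap N hd ζ (a h x) (a h y) = kap N hd ζ x y := by
    intro h x y
    unfold kap
    rw [← haζ h _ (hd x y)]
    congr 1
    apply Subtype.ext
    change a h x * a h y * (a h x)⁻¹ * (a h y)⁻¹ = a h (x * y * x⁻¹ * y⁻¹)
    simp only [map_mul, map_inv]
  have haZ : ∀ (h : I) (z : R), z ∈ ZZ → a h z ∈ ZZ := by
    intro h z hz y
    have h1 : y = a h ((a h)⁻¹ y) := by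
      rw [← MulAut.mul_apply, mul_inv_cancel, MulAut.one_apply]
    rw [h1, hkap]
    exact hz _
  let aZ : I → (ZZ →* ZZ) := fun h =>
    { toFun := fun z => ⟨a h z, haZ h z z.2⟩
      map_one' := Subtype.ext (map_one (a h))
      map_mul' := fun x y => Subtype.ext (map_mul (a h) (x : R) (y : R)) }
  let μ1 : ZZ →* ℂˣ := ∏ h : I, μ.comp (aZ h)
  have hμ1 : ∀ z : ZZ, μ1 z = ∏ h : I, μ (aZ h z) := fun z => MonoidHom.finsetProd_apply _ _ _
  have hμ1i : ∀ (k : I) (z : ZZ), μ1 (aZ k z) = μ1 z := by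
    intro k z
    rw [hμ1, hμ1]
    refine Fintype.prod_equiv (Equiv.mulRight k) _ _ fun h => ?_
    congr 1
    apply Subtype.ext
    change a h (a k z) = a (h * k) z
    rw [map_mul, MulAut.mul_apply]
  let u : ℤ := Nat.gcdA (Nat.card I) (Nat.card N)
  let μ0 : ZZ →* ℂˣ := μ1 ^ u
  have hμ0i : ∀ (k : I) (z : ZZ), μ0 (aZ k z) = μ0 z := by
    intro k z
    change (μ1 ^ u) (aZ k z) = (μ1 ^ u) z
    rw [MonoidHom.zpow_apply, MonoidHom.zpow_apply, hμ1i]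
  have hμ0N : ∀ (n : R) (hn : n ∈ N), μ0 ⟨n, hNZ hn⟩ = ζ ⟨n, hn⟩ := by
    intro n hn
    change (μ1 ^ u) _ = _
    rw [MonoidHom.zpow_apply, hμ1]
    have h1 : ∀ h : I, μ (aZ h ⟨n, hNZ hn⟩) = ζ ⟨n, hn⟩ := by
      intro h
      rw [← haζ h n hn]
      exact hμ _ _
    rw [Finset.prod_congr rfl fun h _ => h1 h, Finset.prod_const, Finset.card_univ, ← Nat.card_eq_fintype_card,
      ← zpow_natCast, ← zpow_mul]
    have h2 := Nat.gcd_eq_gcd_ab (Nat.card I) (Nat.card N)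
    rw [hcop] at h2
    have h3 : ((Nat.card I : ℤ)) * u = 1 + (Nat.card N : ℤ) * (-Nat.gcdB (Nat.card I) (Nat.card N)) := by
      rw [Nat.cast_one] at h2
      rw [h2]; ring
    rw [h3, zpow_add, zpow_one, zpow_mul, zpow_natCast, ← map_pow]
    have h4 : (⟨n, hn⟩ : N) ^ Nat.card N = 1 := pow_card_eq_one'
    rw [h4, map_one, one_zpow, mul_one]
  obtain ⟨θ, hθ⟩ := exists_above ZZ (linIrr μ0)
  have hinv : ∀ g : R, cj ZZ g (linIrr μ0 : ZZ → ℂ) = (linIrr μ0 : ZZ → ℂ) := by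
    intro g
    funext z
    rw [cj_apply, linIrr_apply, linIrr_apply]
    congr 1
    have hz := z.2 g
    have h1 : (⟨g * z * g⁻¹, (inferInstance : ZZ.Normal).conj_mem (z : R) z.2 g⟩ : ZZ)
        = ⟨g * z * g⁻¹ * (z : R)⁻¹, hNZ (hd g z)⟩ * z := by
      apply Subtype.ext
      change g * z * g⁻¹ = g * z * g⁻¹ * (z : R)⁻¹ * z
      group
    rw [h1, map_mul, hμ0N _ (hd g z)]
    have h2 : ζ ⟨g * z * g⁻¹ * (z : R)⁻¹, hd g z⟩ = kap N hd ζ g z := rfl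
    rw [h2, kap_symm, hz, inv_one, one_mul]
  have hres := Cfsg.Agent.H76.restrict_eq_smul_of_invariant ZZ θ.2 (linIrr μ0).2 hinv ((over_iff _ _ _).1 hθ)
  have hone : (deg θ : ℂ) = classInner (fun n : ZZ => (θ : R → ℂ) n) (linIrr μ0 : ZZ → ℂ) := by
    have h1 := hres 1
    rw [linIrr_apply, map_one, Units.val_one, mul_one] at h1
    rw [← h1, ← deg_spec]; rfl
  have hval : ∀ z : ZZ, (θ : R → ℂ) z = (deg θ : ℂ) * (μ0 z : ℂ) := by
    intro z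
    rw [hres z, linIrr_apply, hone]
  have hdeg : (deg θ : ℂ) ≠ 0 := by
    exact_mod_cast (deg_pos θ).ne'
  have hvan : ∀ x : R, x ∉ ZZ → (θ : R → ℂ) x = 0 := by
    intro x hx
    have hx' : ¬ ∀ y, kap N hd ζ x y = 1 := hx
    push Not at hx'
    obtain ⟨y, hy⟩ := hx'
    have h1 : (θ : R → ℂ) (y * x * y⁻¹) = (θ : R → ℂ) x := irr_isClassFunction θ x y
    have hcen : y * x * y⁻¹ * x⁻¹ ∈ Subgroup.center R := by
      rw [Subgroup.mem_center_iff]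
      intro g
      exact (hc _ (hd y x) g).symm
    have h2 := char_mul_central θ.2 hcen x
    have h3 : x * (y * x * y⁻¹ * x⁻¹) = y * x * y⁻¹ := by
      rw [← hc _ (hd y x) x]; group
    rw [h3, h1, deg_spec, hval ⟨_, hNZ (hd y x)⟩, hμ0N _ (hd y x), mul_div_cancel_left₀ _ hdeg] at h2
    have h4 : ζ ⟨y * x * y⁻¹ * x⁻¹, hd y x⟩ ≠ 1 := by
      intro h5
      apply hy
      rw [kap_symm]
      unfold kap
      rw [h5, inv_one]
    by_contra h6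
    apply h4
    apply Units.ext
    have h7 : ((ζ ⟨y * x * y⁻¹ * x⁻¹, hd y x⟩ : ℂˣ) : ℂ) * (θ : R → ℂ) x = 1 * (θ : R → ℂ) x := by
      rw [← h2, one_mul]
    exact mul_right_cancel₀ h6 h7
  refine ⟨θ, ?_, ?_, ?_⟩
  · intro n hn
    rw [hval ⟨n, hNZ hn⟩, hμ0N n hn]
  · intro h x
    by_cases hx : x ∈ ZZ
    · rw [hval ⟨x, hx⟩, hval ⟨a h x, haZ h x hx⟩]
      congr 2
      exact hμ0i h ⟨x, hx⟩
    · rw [hvan x hx, hvan]
      intro hx2
      apply hx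
      have h3 := haZ h⁻¹ _ hx2
      rwa [← MulAut.mul_apply, ← map_mul, inv_mul_cancel, map_one, MulAut.one_apply] at h3
  · intro z hz
    rw [hval ⟨z, hz⟩]
    exact mul_ne_zero hdeg (Units.ne_zero _)

end

end Cfsg.Agent.H25.PalB2
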