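import Cfsg.Agent.H25.PalB3b
import Cfsg.Agent.H25.PalA1

/-!
# S4847, piece B3 (helper8)
-/

set_option autoImplicit false
set_option linter.unusedSectionVars false
set_option linter.style.haveILetI false

namespace Cfsg.Agent.H25.PalB3

open Cfsg Cfsg.Agent.CharBase Cfsg.Agent.Char Cfsg.Agent.H75 Cfsg.Agent.H25.Pal
open Cfsg.Agent.H53.D3

universe u v

theorem count_num {H : Type u} {W : Type v} [Group H] [Finite H] [Group W] [Finite W] (a : H →* MulAut W)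
    {q r n : ℕ} (hr : r.Prime) [Fact q.Prime] (h : FixP a q) (hW : Nat.card W = r ^ n) (hn : 0 < n)
    (h1 : 1 < Nat.card (Sylow q H)) :
    ∃ k, k < n ∧ Nat.card (Sylow q H) * r ^ k + 1 = r ^ n + Nat.card (Sylow q H) := by
  have Q : Sylow q H := Classical.arbitrary _
  have h2 := Cfsg.Agent.H25.PalA1.count a h Q
  let F : Subgroup W :=
    { carrier := {w | ∀ x ∈ (Q : Subgroup H), a x w = w}
      mul_mem' := by
        intro s t hs ht x hx
        rw [map_mul, hs x hx, ht x hx]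
      one_mem' := by
        intro x hx
        rw [map_one]
      inv_mem' := by
        intro s hs x hx
        rw [map_inv, hs x hx] }
  have h3 : Nat.card {w : W // ∀ x ∈ (Q : Subgroup H), a x w = w} = Nat.card F := rfl
  rw [h3, hW] at h2
  have h4 : Nat.card F ∣ r ^ n := by rw [← hW]; exact Subgroup.card_subgroup_dvd_card F
  obtain ⟨k, hk, hk'⟩ := (Nat.dvd_prime_pow hr).mp h4
  rw [hk'] at h2
  have h5 : 1 < r ^ n := Nat.one_lt_pow hn.ne' hr.one_lt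
  have h6 : 0 < r ^ k := pow_pos hr.pos k
  refine ⟨k, ?_, ?_⟩
  · rcases lt_or_eq_of_le hk with h7 | h7
    · exact h7
    · exfalso
      rw [h7] at h2
      have h8 : 2 * (r ^ n - 1) ≤ Nat.card (Sylow q H) * (r ^ n - 1) := Nat.mul_le_mul_right _ h1
      omega
  · have h8 : Nat.card (Sylow q H) * (r ^ k - 1) + Nat.card (Sylow q H) = Nat.card (Sylow q H) * r ^ k := by
      rw [← Nat.mul_succ]
      congr 1
      omega
    omega

theorem caseB_normal {G : Type u} [Group G] [Finite G] (hs : Group.IsSolvable G) {p q r : ℕ}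
    (hp : p.Prime) (hq : q.Prime) (hr : r.Prime) (hpr : p ≠ r) (hqr : q ≠ r) (hpq : p ≠ q)
    (N : Subgroup G) [hN : N.Normal] (R H : Subgroup G) (hRn : R.Normal) (hR : Syl r R)
    (hRH : R ⊓ H = ⊥) (hRH' : R ⊔ H = ⊤) (hNR : N ≤ R) (hcen : ∀ x ∈ N, ∀ y ∈ R, x * y = y * x)
    (hder : ⁅R, R⁆ = N) (hN1 : N ≠ ⊥)
    (hfp : ∀ ζ : N →* ℂˣ, ζ ≠ 1 → ∃ P : Subgroup H, FixAt (dualAct N H) p ζ P ∧
      ∀ z ∈ R, (∀ g ∈ R, ∀ h : z * g * z⁻¹ * g⁻¹ ∈ N, ζ ⟨z * g * z⁻¹ * g⁻¹, h⟩ = 1) →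
        ∀ x ∈ P, (x : G) * z * (x : G)⁻¹ * z⁻¹ ∈ N)
    (hfq : FixP (dualAct N H) q)
    (rp : Rho G p) (rq : Rho G q)
    (npq : ¬ ∃ χ : IrrCharacter G, p * q ∣ charDegree (χ : G → ℂ)) (hnP : NSyl H p) : False := by
  haveI : Fact p.Prime := ⟨hp⟩
  haveI : Fact q.Prime := ⟨hq⟩
  haveI : Fact r.Prime := ⟨hr⟩
  have hNab : ∀ x ∈ N, ∀ y ∈ N, x * y = y * x := fun x hx y hy => hcen x hx y (hNR hy)
  have hNcomm : ∀ x ∈ R, ∀ y ∈ R, x * y * x⁻¹ * y⁻¹ ∈ N := by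
    intro x hx y hy
    rw [← hder]
    exact Subgroup.commutator_mem_commutator hx hy
  obtain ⟨P0, hP0n, hP0⟩ := hnP
  -- a nontrivial character of `N`
  obtain ⟨n0, hn0⟩ : ∃ n : N, n ≠ 1 := by
    by_contra hcon
    push Not at hcon
    apply hN1
    rw [eq_bot_iff]
    intro x hx
    exact congrArg Subtype.val (hcon ⟨x, hx⟩)
  obtain ⟨ζ0, hζ0⟩ := exists_hom_ne' N hNab n0 hn0
  have hζ0' : ζ0 ≠ 1 := by
    rintro rfl
    exact hζ0 rfl
  have hfp' : ∀ ζ : N →* ℂˣ, ζ ≠ 1 → FixAt (dualAct N H) p ζ P0 ∧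
      ∀ z ∈ R, (∀ g ∈ R, ∀ h : z * g * z⁻¹ * g⁻¹ ∈ N, ζ ⟨z * g * z⁻¹ * g⁻¹, h⟩ = 1) →
        ∀ x ∈ P0, (x : G) * z * (x : G)⁻¹ * z⁻¹ ∈ N := by
    intro ζ hζ
    obtain ⟨P, hP, hz⟩ := hfp ζ hζ
    have := eq_of_normal_syl hp hP0n hP0 hP.syl
    rw [← this]
    exact ⟨hP, hz⟩
  have hP0ab := (hfp' ζ0 hζ0').1.ab
  -- centralizing `N`
  have centN : ∀ Q : Subgroup H, (∀ ζ : N →* ℂˣ, ζ ≠ 1 → ∀ x ∈ Q, dualAct N H x ζ = ζ) →
      ∀ x ∈ Q, ∀ n ∈ N, (x : G) * n = n * x := by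
    intro Q hQ x hx n hn
    by_contra hcon
    have hm : (x : G)⁻¹ * n * x ∈ N := by simpa using hN.conj_mem n hn (x : G)⁻¹
    have hne : (⟨(x : G)⁻¹ * n * x, hm⟩ * ⟨n, hn⟩⁻¹ : N) ≠ 1 := by
      intro h
      apply hcon
      rw [mul_inv_eq_one] at h
      have h1 : (x : G)⁻¹ * n * x = n := congrArg Subtype.val h
      have h2 : n * (x : G) = x * n := by
        calc n * (x : G) = x * ((x : G)⁻¹ * n * x) := by group
          _ = x * n := by rw [h1]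
      exact h2.symm
    obtain ⟨φ, hφ⟩ := exists_hom_ne' N hNab _ hne
    apply hφ
    have hφ1 : φ ≠ 1 := by
      rintro rfl
      exact hφ rfl
    have h3 := DFunLike.congr_fun (hQ φ hφ1 x hx) ⟨n, hn⟩
    rw [dualAct_apply] at h3
    rw [map_mul, map_inv, h3, mul_inv_cancel]
  have hP0N : ∀ x ∈ P0, ∀ n ∈ N, (x : G) * n = n * x :=
    centN P0 (fun ζ hζ x hx => (hfp' ζ hζ).1.fx x hx)
  obtain ⟨b, hb⟩ := IsPGroup.iff_card.mp hR.1
  have hRpow : ∀ n ∈ R, n ^ r ^ b = 1 := by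
    intro n hn
    have h1 : (⟨n, hn⟩ : R) ^ Nat.card R = 1 := pow_card_eq_one'
    rw [hb] at h1
    exact congrArg Subtype.val h1
  -- twisting
  have twist : ∀ {l : ℕ} (hl : l.Prime) (hlr : l ≠ r) (Q : Subgroup H) (hQ : IsPGroup l Q)
      (x : H) (hx : x ∈ Q) (z : G) (c : G) (hc : c ∈ R) (h1 : (x : G) * z * (x : G)⁻¹ = c * z)
      (h2 : (x : G) * c = c * x), c = 1 := by
    intro l hl hlr Q hQ x hx z c hc h1 h2
    haveI : Fact l.Prime := ⟨hl⟩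
    obtain ⟨a, ha⟩ := IsPGroup.iff_card.mp hQ
    have h3 : (⟨x, hx⟩ : Q) ^ Nat.card Q = 1 := pow_card_eq_one'
    rw [ha] at h3
    have h4 : (x : G) ^ l ^ a = 1 := congrArg (fun y : Q => ((y : H) : G)) h3
    exact eq_one_of_twist hl hr hlr h1 h2 h4 (hRpow c hc)
  -- (**)
  have star : ∀ z ∈ R, (∃ ζ : N →* ℂˣ, ζ ≠ 1 ∧ ∀ g ∈ R, ∀ h : z * g * z⁻¹ * g⁻¹ ∈ N,
      ζ ⟨z * g * z⁻¹ * g⁻¹, h⟩ = 1) → ∀ x ∈ P0, (x : G) * z = z * x := by
    rintro z hz ⟨ζ, hζ, h1⟩ x hx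
    have h2 := (hfp' ζ hζ).2 z hz h1 x hx
    have h3 := twist hp hpr P0 hP0.1 x hx z _ (hNR h2) (by group) (hP0N x hx _ h2)
    rw [mul_inv_eq_one, mul_inv_eq_iff_eq_mul] at h3
    exact h3
  -- C0
  let C0 : Subgroup G := R ⊓ Subgroup.centralizer (P0.map H.subtype : Set G)
  have hC0 : ∀ c : G, c ∈ C0 ↔ c ∈ R ∧ ∀ x ∈ P0, (x : G) * c = c * x := by
    intro c
    constructor
    · rintro ⟨h1, h2⟩
      refine ⟨h1, fun x hx => ?_⟩
      exact (Subgroup.mem_centralizer_iff.mp h2 (x : G) ⟨x, hx, rfl⟩)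
    · rintro ⟨h1, h2⟩
      refine ⟨h1, ?_⟩
      apply Subgroup.mem_centralizer_iff.mpr
      rintro _ ⟨x, hx, rfl⟩
      exact h2 x hx
  have hNC0 : N ≤ C0 := by
    intro n hn
    rw [hC0]
    exact ⟨hNR hn, fun x hx => hP0N x hx n hn⟩
  have hC0R : C0 ≤ R := inf_le_left
  haveI hC0n : C0.Normal := by
    constructor
    intro c hc g
    have hg : g ∈ R ⊔ H := by rw [hRH']; trivial
    obtain ⟨ρ, hρ, h, hh, rfl⟩ := Subgroup.mem_sup_of_normal_left.mp hg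
    have hc' := (hC0 c).mp hc
    have h1 : h * c * h⁻¹ ∈ C0 := by
      rw [hC0]
      refine ⟨hRn.conj_mem c hc'.1 h, ?_⟩
      intro x hx
      have h2 := hP0n.conj_mem x hx (⟨h, hh⟩⁻¹ : H)
      have h3 := hc'.2 _ h2
      have h4 : ((⟨h, hh⟩⁻¹ * x * (⟨h, hh⟩⁻¹)⁻¹ : H) : G) = h⁻¹ * x * h := by
        show h⁻¹ * (x : G) * (h⁻¹)⁻¹ = _
        rw [inv_inv]
      rw [h4] at h3
      calc (x : G) * (h * c * h⁻¹) = h * ((h⁻¹ * x * h) * c) * h⁻¹ := by group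
        _ = h * (c * (h⁻¹ * x * h)) * h⁻¹ := by rw [h3]
        _ = h * c * h⁻¹ * x := by group
    have h5 : ρ * (h * c * h⁻¹) * ρ⁻¹ ∈ C0 := by
      have h6 := hNcomm ρ hρ (h * c * h⁻¹) (hC0R h1)
      have h7 := C0.mul_mem (hNC0 h6) h1
      have h8 : ρ * (h * c * h⁻¹) * ρ⁻¹ * (h * c * h⁻¹)⁻¹ * (h * c * h⁻¹) = ρ * (h * c * h⁻¹) * ρ⁻¹ := by
        group
      rwa [h8] at h7
    have h9 : ρ * h * c * (ρ * h)⁻¹ = ρ * (h * c * h⁻¹) * ρ⁻¹ := by group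
    rw [h9]
    exact h5
  -- `P0` does not centralize `R`
  obtain ⟨g0, hg0, x0, hx0, hgx⟩ : ∃ g ∈ R, ∃ x ∈ P0, (x : G) * g * (x : G)⁻¹ * g⁻¹ ∉ C0 := by
    by_contra hcon
    push Not at hcon
    refine not_rho hs hp hr hpr R H hRn hR hRH hRH' P0 hP0n hP0 hP0ab ?_ rp
    intro x hx g hg
    have h1 := hcon g hg x hx
    have h3 := twist hp hpr P0 hP0.1 x hx g _ (hC0R h1) (by group) (((hC0 _).mp h1).2 x hx)
    rw [mul_inv_eq_one, mul_inv_eq_iff_eq_mul] at h3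
    exact h3
  set a : G := (x0 : G) * g0 * (x0 : G)⁻¹ * g0⁻¹ with ha
  have haR : a ∈ R := by
    rw [ha]
    exact R.mul_mem (hRn.conj_mem g0 hg0 _) (R.inv_mem hg0)
  have hg0C : g0 ∉ C0 := by
    intro h
    apply hgx
    have h1 := ((hC0 _).mp h).2 x0 hx0
    rw [ha, h1, mul_inv_cancel_right, mul_inv_cancel]
    exact C0.one_mem
  -- `a` commutes with `C0`
  have haC : ∀ c ∈ C0, a * c = c * a := by
    intro c hc
    have hc' := (hC0 c).mp hc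
    have h1 : (x0 : G) * c = c * x0 := hc'.2 x0 hx0
    have h2 : g0 * c * g0⁻¹ * c⁻¹ ∈ N := hNcomm g0 hg0 c hc'.1
    have h3 := hP0N x0 hx0 _ h2
    -- [x g x⁻¹, c] = [g, c]
    have h1' : (x0 : G)⁻¹ * c = c * (x0 : G)⁻¹ := by
      rw [inv_mul_eq_iff_eq_mul, ← mul_assoc, h1, mul_inv_cancel_right]
    have h1'' : (x0 : G)⁻¹ * c⁻¹ = c⁻¹ * (x0 : G)⁻¹ := by
      have := congrArg (fun y => y⁻¹) h1
      simpa using this.symm
    have h4 : (x0 : G) * (g0 * c * g0⁻¹ * c⁻¹) * (x0 : G)⁻¹ = g0 * c * g0⁻¹ * c⁻¹ := by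
      rw [h3, mul_inv_cancel_right]
    have h5 : ((x0 : G) * g0 * (x0 : G)⁻¹) * c * ((x0 : G) * g0 * (x0 : G)⁻¹)⁻¹ * c⁻¹ =
        g0 * c * g0⁻¹ * c⁻¹ := by
      calc ((x0 : G) * g0 * (x0 : G)⁻¹) * c * ((x0 : G) * g0 * (x0 : G)⁻¹)⁻¹ * c⁻¹
          = (x0 : G) * g0 * ((x0 : G)⁻¹ * c) * x0 * g0⁻¹ * ((x0 : G)⁻¹ * c⁻¹) := by group
        _ = (x0 : G) * g0 * (c * (x0 : G)⁻¹) * x0 * g0⁻¹ * (c⁻¹ * (x0 : G)⁻¹) := by rw [h1', h1'']
        _ = (x0 : G) * (g0 * c * g0⁻¹ * c⁻¹) * (x0 : G)⁻¹ := by group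
        _ = g0 * c * g0⁻¹ * c⁻¹ := h4
    have h6 : (x0 : G) * g0 * (x0 : G)⁻¹ = a * g0 := by rw [ha]; group
    rw [h6] at h5
    have h7 : a * (g0 * c * g0⁻¹ * c⁻¹) = (g0 * c * g0⁻¹ * c⁻¹) * a := (hcen _ h2 a haR).symm
    -- a [g0,c] c a⁻¹ c⁻¹ = [g0,c]
    have h8 : (g0 * c * g0⁻¹ * c⁻¹) * (a * c * a⁻¹ * c⁻¹) = g0 * c * g0⁻¹ * c⁻¹ := by
      calc (g0 * c * g0⁻¹ * c⁻¹) * (a * c * a⁻¹ * c⁻¹) = ((g0 * c * g0⁻¹ * c⁻¹) * a) * c * a⁻¹ * c⁻¹ := by group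
        _ = (a * (g0 * c * g0⁻¹ * c⁻¹)) * c * a⁻¹ * c⁻¹ := by rw [h7]
        _ = a * g0 * c * (a * g0)⁻¹ * c⁻¹ := by group
        _ = g0 * c * g0⁻¹ * c⁻¹ := h5
    have h9 : a * c * a⁻¹ * c⁻¹ = 1 := by
      have := h8
      rwa [mul_eq_left] at this
    rw [mul_inv_eq_one, mul_inv_eq_iff_eq_mul] at h9
    exact h9
  -- the q-side on `R`
  have hfqR : ∀ u : R →* ℂˣ, (¬ ∀ x ∈ P0, dualAct R H x u = u) →
      ∃ Q : Subgroup H, FixAt (dualAct R H) q u Q :=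
    fun u hu => exists_fixAt hs hp hq hpq R H hRH hRH' npq P0 hP0n hP0 u hu
  have hfixU : ∀ u : R →* ℂˣ, u ∈ Uc R C0 → (∀ x ∈ P0, dualAct R H x u = u) → u = 1 := by
    intro u hu hfix
    refine hom_eq_one hp hr hpr R H hR.1 P0 hP0.1 u hfix ?_
    intro c hc
    exact hu c ((hC0 _).mpr ⟨c.2, hc⟩)
  have hfU : FixP (actU R C0 H) q := by
    intro u hu
    obtain ⟨Q, hQ⟩ := hfqR u.1 (by
      intro h
      exact hu (Subtype.ext (hfixU u.1 u.2 h)))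
    exact ⟨Q, FixAt.actU hQ⟩
  -- cardinalities
  have hcU : Nat.card (Uc R C0) = (C0.subgroupOf R).index :=
    card_Uc R C0 (fun x hx y hy => hNC0 (hNcomm x hx y hy))
  have hcN : Nat.card (N →* ℂˣ) = Nat.card N := card_dual N hNab
  obtain ⟨n, hn⟩ : ∃ n, Nat.card N = r ^ n := by
    have hd : Nat.card N ∣ r ^ b := by rw [← hb]; exact Subgroup.card_dvd_of_le hNR
    obtain ⟨n, -, hn⟩ := (Nat.dvd_prime_pow hr).mp hd
    exact ⟨n, hn⟩
  obtain ⟨m, hm⟩ : ∃ m, (C0.subgroupOf R).index = r ^ m := by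
    have hd : (C0.subgroupOf R).index ∣ r ^ b := by rw [← hb]; exact Subgroup.index_dvd_card (C0.subgroupOf R)
    obtain ⟨m, -, hm⟩ := (Nat.dvd_prime_pow hr).mp hd
    exact ⟨m, hm⟩
  have hn0' : 0 < n := by
    rcases Nat.eq_zero_or_pos n with h | h
    · exfalso
      rw [h, pow_zero] at hn
      exact hN1 (Subgroup.card_eq_one.mp hn)
    · exact h
  have hm0 : 0 < m := by
    rcases Nat.eq_zero_or_pos m with h | h
    · exfalso
      rw [h, pow_zero, Subgroup.index_eq_one, Subgroup.subgroupOf_eq_top] at hm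
      exact hg0C (hm hg0)
    · exact h
  -- there is more than one Sylow q-subgroup
  have hnq : 1 < Nat.card (Sylow q H) := by
    by_contra hcon
    have h1 : Nat.card (Sylow q H) = 1 := by
      have : 0 < Nat.card (Sylow q H) := Nat.card_pos
      omega
    haveI : Subsingleton (Sylow q H) := (Nat.card_eq_one_iff_unique.mp h1).1
    have S : Sylow q H := Classical.arbitrary _
    have hSn : (S : Subgroup H).Normal := Sylow.normal_of_subsingleton S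
    have hS : Syl q (S : Subgroup H) := ⟨S.2, S.not_dvd_index⟩
    have hSN : ∀ ζ : N →* ℂˣ, ζ ≠ 1 → ∀ x ∈ (S : Subgroup H), dualAct N H x ζ = ζ := by
      intro ζ hζ x hx
      obtain ⟨Q, hQ⟩ := hfq ζ hζ
      have := eq_of_normal_syl hq hSn hS hQ.syl
      rw [← this] at hx
      exact hQ.fx x hx
    have hSab : ∀ x ∈ (S : Subgroup H), ∀ y ∈ (S : Subgroup H), x * y = y * x := by
      obtain ⟨Q, hQ⟩ := hfq ζ0 hζ0'
      have := eq_of_normal_syl hq hSn hS hQ.syl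
      rw [← this]
      exact hQ.ab
    have hSN' := centN S hSN
    have hSR1 : ∀ u : R →* ℂˣ, (¬ ∀ x ∈ P0, dualAct R H x u = u) → ∀ x ∈ (S : Subgroup H),
        dualAct R H x u = u := by
      intro u hu x hx
      obtain ⟨Q, hQ⟩ := hfqR u hu
      have := eq_of_normal_syl hq hSn hS hQ.syl
      rw [← this] at hx
      exact hQ.fx x hx
    -- a character not fixed by P0
    obtain ⟨u0, hu0⟩ : ∃ u : R →* ℂˣ, ¬ ∀ x ∈ P0, dualAct R H x u = u := by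
      by_contra hcon
      push Not at hcon
      have h2 : Nat.card (Uc R C0) = 1 := by
        rw [Nat.card_eq_one_iff_unique]
        refine ⟨⟨fun s t => ?_⟩, ⟨1⟩⟩
        have hs1 := hfixU s.1 s.2 (hcon s.1)
        have ht1 := hfixU t.1 t.2 (hcon t.1)
        exact Subtype.ext (hs1.trans ht1.symm)
      rw [hcU, hm] at h2
      have := Nat.one_lt_pow hm0.ne' hr.one_lt
      omega
    have hSR2 : ∀ u : R →* ℂˣ, ∀ x ∈ (S : Subgroup H), dualAct R H x u = u := by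
      intro u x hx
      by_cases hu : ∀ x ∈ P0, dualAct R H x u = u
      · have h3 : ¬ ∀ x ∈ P0, dualAct R H x (u0 * u) = u0 * u := by
          intro h4
          apply hu0
          intro y hy
          have h5 := h4 y hy
          rw [map_mul, hu y hy] at h5
          exact mul_right_cancel h5
        have h6 := hSR1 _ h3 x hx
        rw [map_mul, hSR1 _ hu0 x hx] at h6
        exact mul_left_cancel h6
      · exact hSR1 u hu x hx
    refine not_rho hs hq hr hqr R H hRn hR hRH hRH' S hSn hS hSab ?_ rq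
    intro y hy g hg
    have hyg : (y : G) * g * (y : G)⁻¹ ∈ R := hRn.conj_mem g hg y
    have hcomm : (y : G) * g * (y : G)⁻¹ * g⁻¹ ∈ N := by
      by_contra hcon
      have h7 : (⟨(y : G) * g * (y : G)⁻¹ * g⁻¹, R.mul_mem hyg (R.inv_mem hg)⟩ : R) ∉ commutator R := by
        intro h8
        apply hcon
        rw [← hder, ← Subgroup.map_subtype_commutator]
        exact ⟨_, h8, rfl⟩
      obtain ⟨φ, hφ⟩ := exists_hom_ne h7
      apply hφ
      have h9 := DFunLike.congr_fun (hSR2 φ y⁻¹ ((S : Subgroup H).inv_mem hy)) ⟨g, hg⟩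
      rw [dualAct_apply] at h9
      have h10 : φ ⟨(y : G) * g * (y : G)⁻¹, hyg⟩ = φ ⟨g, hg⟩ := by
        rw [← h9]
        congr 2
        simp
      have h11 : (⟨(y : G) * g * (y : G)⁻¹ * g⁻¹, R.mul_mem hyg (R.inv_mem hg)⟩ : R) =
          ⟨(y : G) * g * (y : G)⁻¹, hyg⟩ * ⟨g, hg⟩⁻¹ := rfl
      rw [h11, map_mul, map_inv, h10, mul_inv_cancel]
    have h3 := twist hq hqr S S.2 y hy g _ (hNR hcomm) (by group) (hSN' y hy _ hcomm)
    rw [mul_inv_eq_one, mul_inv_eq_iff_eq_mul] at h3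
    exact h3
  obtain ⟨k, hk, hk'⟩ := count_num (dualAct N H) hr hfq (hcN.trans hn) hn0' hnq
  obtain ⟨l, hl, hl'⟩ := count_num (actU R C0 H) hr hfU (hcU.trans hm) hm0 hnq
  have hnm : n = m := arith hr (by omega) hk hl hk' hl'
  -- the commutator map
  let f : R →* N :=
    { toFun := fun g => ⟨a * g * a⁻¹ * (g : G)⁻¹, hNcomm a haR g g.2⟩
      map_one' := by
        apply Subtype.ext
        show a * ((1 : R) : G) * a⁻¹ * ((1 : R) : G)⁻¹ = 1
        simp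
      map_mul' := by
        intro g h
        apply Subtype.ext
        show a * ((g : G) * h) * a⁻¹ * ((g : G) * h)⁻¹ = (a * g * a⁻¹ * (g : G)⁻¹) * (a * h * a⁻¹ * (h : G)⁻¹)
        have h1 := hcen _ (hNcomm a haR h h.2) (g : G)⁻¹ (R.inv_mem g.2)
        calc a * ((g : G) * h) * a⁻¹ * ((g : G) * h)⁻¹
            = a * g * a⁻¹ * ((a * h * a⁻¹ * (h : G)⁻¹) * (g : G)⁻¹) := by group
          _ = a * g * a⁻¹ * ((g : G)⁻¹ * (a * h * a⁻¹ * (h : G)⁻¹)) := by rw [h1]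
          _ = _ := by group }
  have hfs : f.range = ⊤ := by
    by_contra hne
    obtain ⟨ζ, hζ, hk⟩ := exists_hom_kill N hNab f.range hne
    apply hgx
    rw [hC0]
    refine ⟨haR, star a haR ⟨ζ, hζ, ?_⟩⟩
    intro g hg h
    exact hk _ ⟨⟨g, hg⟩, rfl⟩
  have hci : f.ker.index = Nat.card N := by
    rw [Subgroup.index_ker, hfs, Subgroup.card_top]
  have hle : C0.subgroupOf R < f.ker := by
    rw [lt_iff_le_and_ne]
    constructor
    · intro c hc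
      rw [MonoidHom.mem_ker]
      apply Subtype.ext
      show a * c * a⁻¹ * (c : G)⁻¹ = 1
      rw [haC c hc]
      group
    · intro heq
      have h1 : (⟨a, haR⟩ : R) ∈ f.ker := by
        rw [MonoidHom.mem_ker]
        apply Subtype.ext
        show a * a * a⁻¹ * a⁻¹ = 1
        group
      rw [← heq] at h1
      exact hgx h1
  have hlt : f.ker.index < (C0.subgroupOf R).index := Subgroup.index_strictAnti hle
  rw [hci, hn, hm, hnm] at hlt
  exact lt_irrefl _ hlt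

end Cfsg.Agent.H25.PalB3
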