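import Cfsg.Agent.H25.PalDef
import Cfsg.Agent.H53.T1

/-!
# S4847, piece B3: auxiliary lemmas (helper8)
-/

set_option autoImplicit false
set_option linter.unusedSectionVars false
set_option linter.style.haveILetI false

namespace Cfsg.Agent.H25.PalB3

open Cfsg Cfsg.Agent.CharBase Cfsg.Agent.Char Cfsg.Agent.H75 Cfsg.Agent.H25.Pal
open Cfsg.Agent.H53.D3

universe u v

theorem le_of_normal_syl {H : Type u} [Group H] [Finite H] {p : ℕ} (hp : p.Prime) {P0 P : Subgroup H}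
    (hn : P0.Normal) (h0 : Syl p P0) (hP : IsPGroup p P) : P ≤ P0 := by
  haveI : Fact p.Prime := ⟨hp⟩
  have h1 : P0.relIndex P ∣ P0.index := Subgroup.relIndex_dvd_index_of_normal P0 P
  have h2 : P0.relIndex P ∣ Nat.card P := Subgroup.relIndex_dvd_card P0 P
  obtain ⟨k, hk⟩ := IsPGroup.iff_card.mp hP
  rw [hk] at h2
  obtain ⟨j, -, hj⟩ := (Nat.dvd_prime_pow hp).mp h2
  have h3 : j = 0 := by
    by_contra hj0
    apply h0.2
    refine dvd_trans ?_ h1
    rw [hj]
    exact dvd_pow_self p hj0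
  rw [h3, pow_zero] at hj
  exact Subgroup.relIndex_eq_one.mp hj

theorem eq_of_normal_syl {H : Type u} [Group H] [Finite H] {p : ℕ} (hp : p.Prime) {P0 P : Subgroup H}
    (hn : P0.Normal) (h0 : Syl p P0) (hP : Syl p P) : P = P0 := by
  haveI : Fact p.Prime := ⟨hp⟩
  have h1 : P ≤ P0 := le_of_normal_syl hp hn h0 hP.1
  apply le_antisymm h1
  have h2 : P.relIndex P0 * P0.index = P.index := Subgroup.relIndex_mul_index h1
  have h4 : P.relIndex P0 ∣ Nat.card P0 := Subgroup.relIndex_dvd_card P P0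
  obtain ⟨k, hk⟩ := IsPGroup.iff_card.mp h0.1
  rw [hk] at h4
  obtain ⟨j, -, hj⟩ := (Nat.dvd_prime_pow hp).mp h4
  have h3 : j = 0 := by
    by_contra hj0
    apply hP.2
    rw [← h2, hj]
    exact dvd_mul_of_dvd_left (dvd_pow_self p hj0) _
  rw [h3, pow_zero] at hj
  exact Subgroup.relIndex_eq_one.mp hj

theorem eq_one_of_twist {G : Type u} [Group G] {x z n : G} {p r : ℕ} (hp : p.Prime) (hr : r.Prime)
    (hpr : p ≠ r) (h1 : x * z * x⁻¹ = n * z) (h2 : x * n = n * x) {a b : ℕ} (hx : x ^ p ^ a = 1)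
    (hn : n ^ r ^ b = 1) : n = 1 := by
  have key : ∀ k : ℕ, x ^ k * z * (x ^ k)⁻¹ = n ^ k * z := by
    intro k
    induction k with
    | zero => simp
    | succ k ih =>
      have hc : Commute x (n ^ k) := (show Commute x n from h2).pow_right k
      calc x ^ (k + 1) * z * (x ^ (k + 1))⁻¹ = x * (x ^ k * z * (x ^ k)⁻¹) * x⁻¹ := by
            rw [pow_succ']; group
        _ = x * (n ^ k * z) * x⁻¹ := by rw [ih]
        _ = (x * n ^ k) * z * x⁻¹ := by group
        _ = (n ^ k * x) * z * x⁻¹ := by rw [hc.eq]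
        _ = n ^ k * (x * z * x⁻¹) := by group
        _ = n ^ (k + 1) * z := by rw [h1, pow_succ]; group
  have h3 := key (p ^ a)
  rw [hx, one_mul, inv_one, mul_one] at h3
  have h4 : n ^ p ^ a = 1 := by
    have := h3.symm
    rwa [mul_eq_right] at this
  have h5 : n ^ Nat.gcd (p ^ a) (r ^ b) = 1 := pow_gcd_eq_one.mpr ⟨h4, hn⟩
  have h6 : Nat.gcd (p ^ a) (r ^ b) = 1 := Nat.Coprime.pow _ _ ((Nat.coprime_primes hp hr).mpr hpr)
  rwa [h6, pow_one] at h5

theorem relIndex_eq {G : Type u} [Group G] (R H T : Subgroup G) [hR : R.Normal] (hRT : R ≤ T)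
    (h : R ⊔ H = ⊤) : T.relIndex H = T.index := by
  rw [Subgroup.relIndex, Subgroup.index, Subgroup.index]
  refine Nat.card_congr (Equiv.ofBijective (Quotient.map' (fun h : H => (h : G)) ?_) ⟨?_, ?_⟩)
  · intro a b hab
    rw [QuotientGroup.leftRel_apply] at hab ⊢
    exact hab
  · rintro ⟨a⟩ ⟨b⟩ hab
    apply Quotient.sound'
    rw [QuotientGroup.leftRel_apply]
    have := Quotient.exact' hab
    rw [QuotientGroup.leftRel_apply] at this
    exact this
  · rintro ⟨g⟩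
    have hg : g ∈ H ⊔ R := by rw [sup_comm, h]; trivial
    obtain ⟨y, hy, ρ, hρ, hyρ⟩ := Subgroup.mem_sup_of_normal_right.mp hg
    refine ⟨Quotient.mk'' ⟨y, hy⟩, ?_⟩
    apply Quotient.sound'
    rw [QuotientGroup.leftRel_apply]
    show y⁻¹ * g ∈ T
    rw [← hyρ, inv_mul_cancel_left]
    exact hRT hρ

/-- arithmetic -/
theorem arith {r n m k l c : ℕ} (hr : r.Prime) (hc : 0 < c) (hk : k < n) (hl : l < m)
    (h1 : c * r ^ k + 1 = r ^ n + c) (h2 : c * r ^ l + 1 = r ^ m + c) : n = m := by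
  obtain ⟨d, rfl⟩ : ∃ d, c = d + 1 := ⟨c - 1, by omega⟩
  have e1 : (d + 1) * r ^ k = r ^ n + d := by omega
  have e2 : (d + 1) * r ^ l = r ^ m + d := by omega
  have d1 : r ^ k ∣ d := by
    have h3 : r ^ k ∣ r ^ n + d := by rw [← e1]; exact dvd_mul_left _ _
    exact (Nat.dvd_add_right (pow_dvd_pow r hk.le)).mp h3
  have d2 : r ^ l ∣ d := by
    have h3 : r ^ l ∣ r ^ m + d := by rw [← e2]; exact dvd_mul_left _ _
    exact (Nat.dvd_add_right (pow_dvd_pow r hl.le)).mp h3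
  have key : ∀ {i j : ℕ}, i < j → (d + 1) * r ^ i = r ^ j + d → ¬ r ^ (i + 1) ∣ d := by
    intro i j hij he hd
    have h3 : r ^ (i + 1) ∣ (d + 1) * r ^ i := by
      rw [he]
      exact dvd_add (pow_dvd_pow r hij) hd
    rw [pow_succ, mul_comm (r ^ i) r] at h3
    have h4 : r ∣ d + 1 := Nat.dvd_of_mul_dvd_mul_right (pow_pos hr.pos i) h3
    have h5 : r ∣ d := dvd_trans (dvd_pow_self r (Nat.succ_ne_zero i)) hd
    have h6 : r ∣ 1 := (Nat.dvd_add_right h5).mp h4
    exact hr.one_lt.ne' (Nat.dvd_one.mp h6)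
  have hkl : k = l := by
    rcases lt_trichotomy k l with h | h | h
    · exact absurd (dvd_trans (pow_dvd_pow r h) d2) (key hk e1)
    · exact h
    · exact absurd (dvd_trans (pow_dvd_pow r h) d1) (key hl e2)
  subst hkl
  have h7 : r ^ n = r ^ m := by omega
  exact Nat.pow_right_injective hr.two_le h7

theorem index_H {G : Type u} [Group G] [Finite G] (R H : Subgroup G) (hR : R.Normal)
    (h1 : R ⊓ H = ⊥) (h2 : R ⊔ H = ⊤) : H.index = Nat.card R := by
  have hc : Subgroup.IsComplement' H R := by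
    apply Subgroup.isComplement'_of_disjoint_and_mul_eq_univ
    · rw [disjoint_iff, inf_comm]; exact h1
    · rw [← Subgroup.mul_normal, sup_comm, h2]; rfl
  exact hc.symm.index_eq_card

/-- a normal abelian Sylow subgroup of the complement centralizing `R` -/
theorem not_rho {G : Type u} [Group G] [Finite G] (hs : Group.IsSolvable G) {q r : ℕ}
    (hq : q.Prime) (hr : r.Prime) (hqr : q ≠ r) (R H : Subgroup G) (hRn : R.Normal) (hR : Syl r R)
    (hRH : R ⊓ H = ⊥) (hRH' : R ⊔ H = ⊤) (Q : Subgroup H) (hQn : Q.Normal) (hQ : Syl q Q)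
    (hQab : ∀ x ∈ Q, ∀ y ∈ Q, x * y = y * x) (hQR : ∀ x ∈ Q, ∀ g ∈ R, (x : G) * g = g * x) :
    ¬ Rho G q := by
  rintro ⟨χ, hχ⟩
  haveI : Fact q.Prime := ⟨hq⟩
  haveI : Fact r.Prime := ⟨hr⟩
  refine (Cfsg.Agent.S4493.result hs q hq).1 ⟨Q.map H.subtype, ?_, ?_, ?_, ?_⟩ χ hχ
  · constructor
    rintro _ ⟨x, hx, rfl⟩ g
    have hg : g ∈ R ⊔ H := by rw [hRH']; trivial
    obtain ⟨ρ, hρ, h, hh, rfl⟩ := Subgroup.mem_sup_of_normal_left.mp hg
    have h3 := hQn.conj_mem x hx ⟨h, hh⟩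
    refine ⟨_, h3, ?_⟩
    have h4 := hQR _ h3 ρ hρ
    show ((⟨h, hh⟩ * x * ⟨h, hh⟩⁻¹ : H) : G) = ρ * h * (x : G) * (ρ * h)⁻¹
    have h5 : ((⟨h, hh⟩ * x * ⟨h, hh⟩⁻¹ : H) : G) = h * x * h⁻¹ := rfl
    rw [h5] at h4 ⊢
    calc h * x * h⁻¹ = (h * x * h⁻¹) * ρ * ρ⁻¹ := by group
      _ = ρ * (h * x * h⁻¹) * ρ⁻¹ := by rw [h4]
      _ = ρ * h * (x : G) * (ρ * h)⁻¹ := by group
  · rintro _ ⟨x, hx, rfl⟩ _ ⟨y, hy, rfl⟩
    exact congrArg Subtype.val (hQab x hx y hy)
  · exact hQ.1.map H.subtype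
  · rw [Subgroup.index_map_subtype, index_H R H hRn hRH hRH']
    intro hd
    rcases hq.dvd_mul.mp hd with h | h
    · exact hQ.2 h
    · obtain ⟨k, hk⟩ := IsPGroup.iff_card.mp hR.1
      rw [hk] at h
      exact hqr ((Nat.prime_dvd_prime_iff_eq hq hr).mp (hq.dvd_of_dvd_pow h))

/-- separation of points of a commutative subgroup -/
theorem exists_hom_ne' {G : Type u} [Group G] [Finite G] (N : Subgroup G)
    (hab : ∀ x ∈ N, ∀ y ∈ N, x * y = y * x) (n : N) (hn : n ≠ 1) : ∃ φ : N →* ℂˣ, φ n ≠ 1 := by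
  apply exists_hom_ne
  intro h
  apply hn
  have h1 : commutator N = ⊥ := by
    rw [commutator_eq_bot_iff_center_eq_top, eq_top_iff]
    intro x _
    rw [Subgroup.mem_center_iff]
    intro y
    exact Subtype.ext (hab _ y.2 _ x.2)
  rw [h1] at h
  exact h

/-- a proper subgroup of a commutative subgroup is killed by a character -/
theorem exists_hom_kill {G : Type u} [Group G] [Finite G] (N : Subgroup G)
    (hab : ∀ x ∈ N, ∀ y ∈ N, x * y = y * x) (K : Subgroup N) (hK : K ≠ ⊤) :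
    ∃ φ : N →* ℂˣ, φ ≠ 1 ∧ ∀ k ∈ K, φ k = 1 := by
  haveI hKn : K.Normal := ⟨fun k hk g => by
    have : g * k = k * g := Subtype.ext (hab _ g.2 _ k.2)
    rw [this, mul_inv_cancel_right]
    exact hk⟩
  obtain ⟨n, hn⟩ : ∃ n : N, n ∉ K := by
    by_contra hcon
    push Not at hcon
    exact hK (eq_top_iff.mpr fun x _ => hcon x)
  have h1 : (QuotientGroup.mk' K n) ∉ commutator (N ⧸ K) := by
    have h2 : commutator (N ⧸ K) = ⊥ := by
      rw [commutator_eq_bot_iff_center_eq_top, eq_top_iff]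
      intro x' _
      obtain ⟨x, rfl⟩ := QuotientGroup.mk'_surjective K x'
      rw [Subgroup.mem_center_iff]
      intro y'
      obtain ⟨y, rfl⟩ := QuotientGroup.mk'_surjective K y'
      rw [← map_mul, ← map_mul]
      congr 1
      exact Subtype.ext (hab _ y.2 _ x.2)
    rw [h2, Subgroup.mem_bot]
    intro h3
    exact hn ((QuotientGroup.eq_one_iff n).mp h3)
  obtain ⟨φ, hφ⟩ := exists_hom_ne h1
  refine ⟨φ.comp (QuotientGroup.mk' K), ?_, ?_⟩
  · intro h3
    apply hφ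
    exact DFunLike.congr_fun h3 n
  · intro k hk
    have h3 : QuotientGroup.mk' K k = 1 := (QuotientGroup.eq_one_iff k).mpr hk
    show φ (QuotientGroup.mk' K k) = 1
    rw [h3, map_one]

theorem card_dual {G : Type u} [Group G] [Finite G] (N : Subgroup G)
    (hab : ∀ x ∈ N, ∀ y ∈ N, x * y = y * x) : Nat.card (N →* ℂˣ) = Nat.card N := by
  have h1 : commutator N = ⊥ := by
    rw [commutator_eq_bot_iff_center_eq_top, eq_top_iff]
    intro x _
    rw [Subgroup.mem_center_iff]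
    intro y
    exact Subtype.ext (hab _ y.2 _ x.2)
  rw [card_hom, h1, Subgroup.index_bot]

end Cfsg.Agent.H25.PalB3
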