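import Cfsg.Agent.H25.PalB3a

/-!
# S4847, piece B3: the action on the characters (helper8)
-/

set_option autoImplicit false
set_option linter.unusedSectionVars false
set_option linter.style.haveILetI false

namespace Cfsg.Agent.H25.PalB3

open Cfsg Cfsg.Agent.CharBase Cfsg.Agent.Char Cfsg.Agent.H75 Cfsg.Agent.H25.Pal
open Cfsg.Agent.H53.D3

universe u v

variable {G : Type u} [Group G]

/-- characters of `R` trivial on `C` -/
def Uc (R C : Subgroup G) : Subgroup (R →* ℂˣ) where
  carrier := {u | ∀ c : R, (c : G) ∈ C → u c = 1}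
  mul_mem' := by
    intro a b ha hb c hc
    rw [MonoidHom.mul_apply, ha c hc, hb c hc, mul_one]
  one_mem' := by
    intro c _
    rfl
  inv_mem' := by
    intro a ha c hc
    rw [MonoidHom.inv_apply, ha c hc, inv_one]

theorem mem_Uc {R C : Subgroup G} {u : R →* ℂˣ} : u ∈ Uc R C ↔ ∀ c : R, (c : G) ∈ C → u c = 1 := Iff.rfl

theorem dual_mem (R C H : Subgroup G) [hR : R.Normal] [hC : C.Normal] (h : H) {u : R →* ℂˣ}
    (hu : u ∈ Uc R C) : dualAct R H h u ∈ Uc R C := by
  intro c hc
  rw [dualAct_apply]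
  apply hu
  have := hC.conj_mem c hc (h : G)⁻¹
  simpa using this

/-- the restricted action -/
def actU (R C H : Subgroup G) [hR : R.Normal] [hC : C.Normal] : H →* MAut (Uc R C) where
  toFun h :=
    { toFun := fun u => ⟨dualAct R H h u.1, dual_mem R C H h u.2⟩
      invFun := fun u => ⟨dualAct R H h⁻¹ u.1, dual_mem R C H h⁻¹ u.2⟩
      left_inv := by
        intro u
        apply Subtype.ext
        show dualAct R H h⁻¹ (dualAct R H h u.1) = u.1
        have : (dualAct R H h⁻¹ * dualAct R H h) u.1 = u.1 := by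
          rw [← map_mul, inv_mul_cancel, map_one]; rfl
        exact this
      right_inv := by
        intro u
        apply Subtype.ext
        show dualAct R H h (dualAct R H h⁻¹ u.1) = u.1
        have : (dualAct R H h * dualAct R H h⁻¹) u.1 = u.1 := by
          rw [← map_mul, mul_inv_cancel, map_one]; rfl
        exact this
      map_mul' := by
        intro u v
        apply Subtype.ext
        exact map_mul (dualAct R H h) u.1 v.1 }
  map_one' := by
    refine MulEquiv.ext fun u => Subtype.ext ?_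
    show dualAct R H 1 u.1 = u.1
    rw [map_one]; rfl
  map_mul' := by
    intro h k
    refine MulEquiv.ext fun u => Subtype.ext ?_
    show dualAct R H (h * k) u.1 = dualAct R H h (dualAct R H k u.1)
    rw [map_mul]; rfl

theorem actU_apply (R C H : Subgroup G) [hR : R.Normal] [hC : C.Normal] (h : H) (u : Uc R C) :
    ((actU R C H h u : Uc R C) : R →* ℂˣ) = dualAct R H h u.1 := rfl

theorem FixAt.actU {R C H : Subgroup G} [hR : R.Normal] [hC : C.Normal] {q : ℕ} {u : Uc R C}
    {Q : Subgroup H} (h : FixAt (dualAct R H) q u.1 Q) : FixAt (actU R C H) q u Q where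
  syl := h.syl
  ab := h.ab
  fx := fun x hx => Subtype.ext (h.fx x hx)
  nrm := fun g hg => h.nrm g (congrArg Subtype.val hg)

variable [Finite G]

instance finite_hom (R : Subgroup G) : Finite (R →* ℂˣ) := by
  apply Nat.finite_of_card_ne_zero
  rw [card_hom]
  exact Subgroup.index_ne_zero_of_finite

theorem card_Uc (R C : Subgroup G) [hC : C.Normal] (h : ∀ x ∈ R, ∀ y ∈ R, x * y * x⁻¹ * y⁻¹ ∈ C) :
    Nat.card (Uc R C) = (C.subgroupOf R).index := by
  have e : Uc R C ≃ ((R ⧸ C.subgroupOf R) →* ℂˣ) :=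
    { toFun := fun u => QuotientGroup.lift (C.subgroupOf R) u.1 (fun c hc => u.2 c hc)
      invFun := fun f => ⟨f.comp (QuotientGroup.mk' (C.subgroupOf R)), fun c hc => by
        show f (QuotientGroup.mk' (C.subgroupOf R) c) = 1
        have h3 : QuotientGroup.mk' (C.subgroupOf R) c = 1 := (QuotientGroup.eq_one_iff c).mpr hc
        rw [h3, map_one]⟩
      left_inv := by
        intro u
        apply Subtype.ext
        ext x
        rfl
      right_inv := by
        intro f
        ext x
        rfl }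
  rw [Nat.card_congr e, card_hom]
  have h2 : commutator (R ⧸ C.subgroupOf R) = ⊥ := by
    rw [commutator_eq_bot_iff_center_eq_top, eq_top_iff]
    intro x' _
    obtain ⟨x, rfl⟩ := QuotientGroup.mk'_surjective (C.subgroupOf R) x'
    rw [Subgroup.mem_center_iff]
    intro y'
    obtain ⟨y, rfl⟩ := QuotientGroup.mk'_surjective (C.subgroupOf R) y'
    rw [← map_mul, ← map_mul]
    refine (QuotientGroup.eq (s := C.subgroupOf R)).mpr ?_
    show ((y * x : R) : G)⁻¹ * ((x * y : R) : G) ∈ C
    have := h _ (R.inv_mem x.2) _ (R.inv_mem y.2)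
    have h3 : ((y * x : R) : G)⁻¹ * ((x * y : R) : G) = (x : G)⁻¹ * (y : G)⁻¹ * ((x : G)⁻¹)⁻¹ * ((y : G)⁻¹)⁻¹ := by
      show ((y : G) * x)⁻¹ * ((x : G) * y) = _
      group
    rw [h3]
    exact this
  rw [h2, Subgroup.index_bot]
  rfl

/-- `dualAct` fixes iff in the inertia group -/
theorem fix_iff (R H : Subgroup G) [hR : R.Normal] (h : H) (u : R →* ℂˣ) :
    dualAct R H h u = u ↔ (h : G) ∈ inertia R (linIrr u : R → ℂ) := by
  rw [← inv_mem_iff (x := (h : G)), mem_inertia_iff]
  constructor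
  · intro h1 n
    rw [linIrr_apply, linIrr_apply]
    have h2 := DFunLike.congr_fun h1 n
    rw [dualAct_apply] at h2
    rw [← h2]
    congr 3
    rw [inv_inv]
  · intro h1
    ext n
    rw [dualAct_apply]
    have h2 := h1 n
    rw [linIrr_apply, linIrr_apply] at h2
    rw [← h2]
    congr 3
    rw [inv_inv]

/-- coprime fixed points -/
theorem hom_eq_one {p r : ℕ} (hp : p.Prime) (hr : r.Prime) (hpr : p ≠ r) (R H : Subgroup G) [hR : R.Normal]
    (hRr : IsPGroup r R) (P : Subgroup H) (hP : IsPGroup p P) (u : R →* ℂˣ)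
    (hfix : ∀ x ∈ P, dualAct R H x u = u)
    (hC : ∀ c : R, (∀ x ∈ P, (x : G) * c = c * x) → u c = 1) : u = 1 := by
  haveI : Fact p.Prime := ⟨hp⟩
  haveI : Fact r.Prime := ⟨hr⟩
  have hfix' : ∀ x ∈ P, ∀ (n : R) (hn : (x : G) * n * (x : G)⁻¹ ∈ R), u ⟨(x : G) * n * (x : G)⁻¹, hn⟩ = u n := by
    intro x hx n hn
    have h1 := DFunLike.congr_fun (hfix x⁻¹ (P.inv_mem hx)) n
    rw [dualAct_apply] at h1
    rw [← h1]
    congr 2
    simp
  ext g
  let S := {y : R // u y = u g}
  letI : MulAction P S :=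
    { smul := fun x y => ⟨⟨((x : H) : G) * (y.1 : G) * ((x : H) : G)⁻¹, hR.conj_mem _ y.1.2 _⟩, by
        rw [hfix' x x.2]; exact y.2⟩
      one_smul := by
        intro y
        apply Subtype.ext
        apply Subtype.ext
        show (((1 : P) : H) : G) * (y.1 : G) * (((1 : P) : H) : G)⁻¹ = y.1
        simp
      mul_smul := by
        intro a b y
        apply Subtype.ext
        apply Subtype.ext
        show (((a * b : P) : H) : G) * (y.1 : G) * (((a * b : P) : H) : G)⁻¹ =
          ((a : H) : G) * (((b : H) : G) * (y.1 : G) * ((b : H) : G)⁻¹) * ((a : H) : G)⁻¹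
        have : (((a * b : P) : H) : G) = ((a : H) : G) * ((b : H) : G) := rfl
        rw [this]
        group }
  have hcard : ¬ p ∣ Nat.card S := by
    have e : S ≃ u.ker :=
      { toFun := fun y => ⟨g⁻¹ * y.1, by
          rw [MonoidHom.mem_ker, map_mul, map_inv, y.2, inv_mul_cancel]⟩
        invFun := fun k => ⟨g * k.1, by
          have := k.2
          rw [MonoidHom.mem_ker] at this
          rw [map_mul, this, mul_one]⟩
        left_inv := by
          intro y; apply Subtype.ext; simp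
        right_inv := by
          intro k; apply Subtype.ext; simp }
    rw [Nat.card_congr e]
    obtain ⟨k, hk⟩ := IsPGroup.iff_card.mp hRr
    intro hd
    have h1 : p ∣ r ^ k := by
      rw [← hk]
      exact hd.trans (Subgroup.card_subgroup_dvd_card _)
    exact hpr ((Nat.prime_dvd_prime_iff_eq hp hr).mp (hp.dvd_of_dvd_pow h1))
  haveI : Finite S := inferInstanceAs (Finite {y : R // u y = u g})
  obtain ⟨y, hy⟩ := hP.nonempty_fixed_point_of_prime_not_dvd_card S hcard
  have h1 : u y.1 = 1 := by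
    apply hC
    intro x hx
    have h2 := hy ⟨x, hx⟩
    have h3 := congrArg (fun z : S => ((z.1 : R) : G)) h2
    have h4 : (x : G) * (y.1 : G) * (x : G)⁻¹ = y.1 := h3
    rw [mul_inv_eq_iff_eq_mul] at h4
    exact h4
  rw [← y.2, h1]
  rfl

/-- the inertia argument -/
theorem exists_fixAt (hs : Group.IsSolvable G) {p q : ℕ} (hp : p.Prime) (hq : q.Prime) (hpq : p ≠ q)
    (R H : Subgroup G) [hRn : R.Normal] (hRH : R ⊓ H = ⊥) (hRH' : R ⊔ H = ⊤)
    (npq : ¬ ∃ χ : IrrCharacter G, p * q ∣ charDegree (χ : G → ℂ)) (P0 : Subgroup H) (hP0n : P0.Normal)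
    (hP0 : Syl p P0) (u : R →* ℂˣ) (hu : ¬ ∀ x ∈ P0, dualAct R H x u = u) :
    ∃ Q : Subgroup H, FixAt (dualAct R H) q u Q := by
  haveI : Fact p.Prime := ⟨hp⟩
  haveI : Fact q.Prime := ⟨hq⟩
  set T := inertia R (linIrr u : R → ℂ) with hT
  have hRT : R ≤ T := by rw [hT]; exact le_inertia' R (linIrr u)
  have hrel : T.relIndex H = T.index := relIndex_eq R H T hRT hRH'
  have hpT : p ∣ T.index := by
    by_contra hcon
    apply hu
    intro x hx
    rw [fix_iff]
    -- the Sylow p-subgroup of `T ∩ H` is `P0`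
    have S' : Sylow p (T.subgroupOf H : Subgroup H) := Classical.arbitrary _
    have h1 : Syl p ((S' : Subgroup (T.subgroupOf H : Subgroup H)).map (T.subgroupOf H).subtype) := by
      refine ⟨S'.2.map _, ?_⟩
      rw [Subgroup.index_map_subtype]
      intro hd
      rcases hp.dvd_mul.mp hd with h | h
      · exact S'.not_dvd_index h
      · apply hcon
        rw [← hrel]
        exact h
    have h2 := eq_of_normal_syl hp hP0n hP0 h1
    rw [← h2] at hx
    obtain ⟨y, -, hy⟩ := hx
    rw [← hy]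
    exact y.2
  have hdeg : ∀ β : IrrCharacter ↥(H ⊓ T), ¬ q ∣ T.index * deg β := by
    intro β hd
    obtain ⟨χ, -, hχ⟩ := compl_deg2 R H hRH hRH' u T hT β
    apply npq
    refine ⟨χ, ?_⟩
    rw [charDegree_eq_deg, hχ]
    exact ((Nat.coprime_primes hp hq).mpr hpq).mul_dvd_of_dvd_of_dvd (dvd_mul_of_dvd_left hpT _) hd
  have hsol : Group.IsSolvable ↥(H ⊓ T) := by
    haveI := hs
    infer_instance
  obtain ⟨P, hPn, hPab, hPq, hPi⟩ := (Cfsg.Agent.S4493.result hsol q hq).2 (by
    intro β hd
    rw [charDegree_eq_deg] at hd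
    exact hdeg β (dvd_mul_of_dvd_right hd _))
  have hqT : ¬ q ∣ T.index := by
    intro hd
    exact hdeg (linIrr 1) (dvd_mul_of_dvd_left hd _)
  let f : ↥(H ⊓ T) →* H := Subgroup.inclusion inf_le_left
  have hfi : Function.Injective f := Subgroup.inclusion_injective _
  have hfr : f.range = (H ⊓ T).subgroupOf H := Subgroup.inclusion_range _
  refine ⟨P.map f, ⟨?_, ?_⟩, ?_, ?_, ?_⟩
  · exact hPq.map f
  · rw [Subgroup.index_map_of_injective _ hfi, hfr]
    have h3 : ((H ⊓ T).subgroupOf H).index = T.index := by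
      have : ((H ⊓ T).subgroupOf H).index = (H ⊓ T).relIndex H := rfl
      rw [this, Subgroup.inf_relIndex_left, hrel]
    rw [h3]
    intro hd
    rcases hq.dvd_mul.mp hd with h | h
    · exact hPi h
    · exact hqT h
  · rintro _ ⟨x, hx, rfl⟩ _ ⟨y, hy, rfl⟩
    rw [← map_mul, ← map_mul, hPab x hx y hy]
  · rintro _ ⟨x, hx, rfl⟩
    rw [fix_iff]
    exact x.2.2
  · rintro g hg _ ⟨x, hx, rfl⟩
    rw [fix_iff] at hg
    refine ⟨⟨(g : G), g.2, hg⟩ * x * ⟨(g : G), g.2, hg⟩⁻¹, hPn.conj_mem x hx _, ?_⟩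
    rfl

end Cfsg.Agent.H25.PalB3
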