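import Cfsg.Agent.H25.PalXF
import Cfsg.Agent.H25.PalB1
import Cfsg.Agent.H25.PalB2
import Cfsg.Agent.H25.PalB3

set_option autoImplicit false

namespace Cfsg.Agent.H25.PalFinal

open Cfsg Cfsg.Agent.H25.Pal Cfsg.Agent.H25.PalX Cfsg.Agent.H25.PalMain

universe u v

theorem caseA : CaseA.{u} := by
  intro G _ _ hs p q r s hp hq hr hsp hpr hqr hsr N _ hNs hNab hmin R hR hRab hNR rp rq rr npr nqr
  exact PalB1.caseA hs hp hq hr hsp hpr hqr hsr N hNs hNab hmin R hR hRab hNR rp rq rr npr nqr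

theorem caseB : CaseB.{u} := by
  intro G _ _ hs p r hp hr hpr N _ R H hRn hR hRH hRH' hNR hcen hder npr
  exact PalB2.caseB hs hp hr hpr N R H hRn hR hRH hRH' hNR hcen hder npr

theorem caseBN : CaseBN.{u} := by
  intro G _ _ hs p q r hp hq hr hpr hqr hpq N _ R H hRn hR hRH hRH' hNR hcen hder hN1 hfp hfq rp rq npq hnP
  exact PalB3.caseB_normal hs hp hq hr hpr hqr hpq N R H hRn hR hRH hRH' hNR hcen hder hN1 hfp hfq rp rq npq hnP

theorem final {G : Type u} [Group G] [Finite G] (hs : Group.IsSolvable G) {p q r : ℕ} (hp : p.Prime)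
    (hq : q.Prime) (hr : r.Prime) (hpq : p ≠ q) (hpr : p ≠ r) (hqr : q ≠ r)
    (rp : Rho G p) (rq : Rho G q) (rr : Rho G r) :
    (∃ χ : IrrCharacter G, p * q ∣ charDegree (χ : G → ℂ)) ∨
      (∃ χ : IrrCharacter G, q * r ∣ charDegree (χ : G → ℂ)) ∨
      (∃ χ : IrrCharacter G, p * r ∣ charDegree (χ : G → ℂ)) :=
  main caseA caseB caseBN PalXF.xgen _ G hs rfl hp hq hr hpq hpr hqr rp rq rr

end Cfsg.Agent.H25.PalFinal
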