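import Cfsg.Agent.H25.PalX
import Cfsg.Agent.H53.T1
import Cfsg.Agent.Solv.MinNormal

set_option autoImplicit false

namespace Cfsg.Agent.H25.PalMain

open Cfsg Cfsg.Agent.CharBase Cfsg.Agent.Char Cfsg.Agent.H75 Cfsg.Agent.H25.Pal Cfsg.Agent.H25.PalX

universe u v

def CaseA : Prop :=
  ∀ {G : Type u} [Group G] [Finite G] (_ : Group.IsSolvable G) {p q r s : ℕ}
    (_ : p.Prime) (_ : q.Prime) (_ : r.Prime) (_ : s.Prime) (_ : p ≠ r) (_ : q ≠ r) (_ : s ≠ r)
    (N : Subgroup G) [_hN : N.Normal] (_ : IsPGroup s N) (_ : ∀ x ∈ N, ∀ y ∈ N, x * y = y * x)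
    (_ : ∀ K : Subgroup G, K.Normal → K ≤ N → K = ⊥ ∨ K = N)
    (R : Subgroup G) (_ : Syl r R) (_ : ∀ x ∈ R, ∀ y ∈ R, x * y = y * x) (_ : (N ⊔ R).Normal)
    (_ : Rho G p) (_ : Rho G q) (_ : Rho G r)
    (_ : ¬ ∃ χ : IrrCharacter G, p * r ∣ charDegree (χ : G → ℂ))
    (_ : ¬ ∃ χ : IrrCharacter G, q * r ∣ charDegree (χ : G → ℂ)),
    ∃ H : Subgroup G, N ⊓ H = ⊥ ∧ N ⊔ H = ⊤ ∧ FixP (dualAct N H) p ∧ FixP (dualAct N H) q ∧
      ¬ NSyl H p ∧ ¬ NSyl H q

def CaseB : Prop :=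
  ∀ {G : Type u} [Group G] [Finite G] (_ : Group.IsSolvable G) {p r : ℕ}
    (_ : p.Prime) (_ : r.Prime) (_ : p ≠ r)
    (N : Subgroup G) [_hN : N.Normal] (R H : Subgroup G) (_ : R.Normal) (_ : Syl r R)
    (_ : R ⊓ H = ⊥) (_ : R ⊔ H = ⊤) (_ : N ≤ R) (_ : ∀ x ∈ N, ∀ y ∈ R, x * y = y * x)
    (_ : ⁅R, R⁆ = N)
    (_ : ¬ ∃ χ : IrrCharacter G, p * r ∣ charDegree (χ : G → ℂ)),
    ∀ ζ : N →* ℂˣ, ζ ≠ 1 → ∃ P : Subgroup H, FixAt (dualAct N H) p ζ P ∧
      ∀ z ∈ R, (∀ g ∈ R, ∀ h : z * g * z⁻¹ * g⁻¹ ∈ N, ζ ⟨z * g * z⁻¹ * g⁻¹, h⟩ = 1) →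
        ∀ x ∈ P, (x : G) * z * (x : G)⁻¹ * z⁻¹ ∈ N

def CaseBN : Prop :=
  ∀ {G : Type u} [Group G] [Finite G] (_ : Group.IsSolvable G) {p q r : ℕ}
    (_ : p.Prime) (_ : q.Prime) (_ : r.Prime) (_ : p ≠ r) (_ : q ≠ r) (_ : p ≠ q)
    (N : Subgroup G) [_hN : N.Normal] (R H : Subgroup G) (_ : R.Normal) (_ : Syl r R)
    (_ : R ⊓ H = ⊥) (_ : R ⊔ H = ⊤) (_ : N ≤ R) (_ : ∀ x ∈ N, ∀ y ∈ R, x * y = y * x)
    (_ : ⁅R, R⁆ = N) (_ : N ≠ ⊥)
    (_ : ∀ ζ : N →* ℂˣ, ζ ≠ 1 → ∃ P : Subgroup H, FixAt (dualAct N H) p ζ P ∧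
      ∀ z ∈ R, (∀ g ∈ R, ∀ h : z * g * z⁻¹ * g⁻¹ ∈ N, ζ ⟨z * g * z⁻¹ * g⁻¹, h⟩ = 1) →
        ∀ x ∈ P, (x : G) * z * (x : G)⁻¹ * z⁻¹ ∈ N)
    (_ : FixP (dualAct N H) q)
    (_ : Rho G p) (_ : Rho G q)
    (_ : ¬ ∃ χ : IrrCharacter G, p * q ∣ charDegree (χ : G → ℂ)) (_ : NSyl H p), False

def XGen : Prop :=
  ∀ {H : Type u} {W : Type v} [Group H] [Finite H] (_ : Group.IsSolvable H) [Group W] [Finite W]
    (a : H →* MulAut W) {s n p q : ℕ} (_ : s.Prime) (_ : p.Prime) (_ : q.Prime)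
    (_ : p ≠ q) (_ : Nat.card W = s ^ n) (_ : 1 < Nat.card W) (_ : FixP a p) (_ : FixP a q)
    (_ : ¬ NSyl H p) (_ : ¬ NSyl H q), ∃ χ : IrrCharacter H, p * q ∣ charDegree (χ : H → ℂ)

/-- the projection of `G` onto a complement of a normal subgroup -/
theorem exists_proj {G : Type u} [Group G] (K H : Subgroup G) [K.Normal] (h1 : K ⊓ H = ⊥) (h2 : K ⊔ H = ⊤) :
    ∃ f : G →* H, Function.Surjective f := by
  classical
  have hbij : Function.Bijective ((QuotientGroup.mk' K).comp H.subtype) := by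
    constructor
    · rw [injective_iff_map_eq_one]
      intro x hx
      have h3 : (x : G) ∈ K := (QuotientGroup.eq_one_iff _).mp hx
      have h4 : (x : G) ∈ K ⊓ H := ⟨h3, x.2⟩
      rw [h1, Subgroup.mem_bot] at h4
      exact Subtype.ext h4
    · intro y
      obtain ⟨g, rfl⟩ := QuotientGroup.mk_surjective y
      have hg : g ∈ K ⊔ H := by rw [h2]; trivial
      obtain ⟨k, hk, h, hh, rfl⟩ := Subgroup.mem_sup_of_normal_left.mp hg
      refine ⟨⟨h, hh⟩, ?_⟩
      show ((h : G) : G ⧸ K) = ((k * h : G) : G ⧸ K)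
      rw [QuotientGroup.mk_mul, (QuotientGroup.eq_one_iff k).mpr hk, one_mul]
  let e := MulEquiv.ofBijective _ hbij
  exact ⟨e.symm.toMonoidHom.comp (QuotientGroup.mk' K),
    e.symm.surjective.comp (QuotientGroup.mk'_surjective K)⟩

theorem adj_of_surj {G : Type u} {X : Type u} [Group G] [Group X] (f : G →* X) (hf : Function.Surjective f)
    {m : ℕ} (h : ∃ χ : IrrCharacter X, m ∣ charDegree (χ : X → ℂ)) :
    ∃ χ : IrrCharacter G, m ∣ charDegree (χ : G → ℂ) := by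
  obtain ⟨χ, hχ⟩ := h
  refine ⟨⟨fun g => (χ : X → ℂ) (f g), isIrrCharacter_comp_surjective χ.2 f hf⟩, ?_⟩
  have : charDegree (fun g => (χ : X → ℂ) (f g)) = charDegree (χ : X → ℂ) := by
    unfold charDegree
    simp only [map_one]
  rw [this]
  exact hχ

theorem card_dual {G : Type u} [Group G] [Finite G] (N : Subgroup G)
    (hNab : ∀ x ∈ N, ∀ y ∈ N, x * y = y * x) : Nat.card (N →* ℂˣ) = Nat.card N := by
  rw [Cfsg.Agent.H53.D3.card_hom]
  have : commutator N = ⊥ := by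
    rw [commutator_def, Subgroup.commutator_eq_bot_iff_le_centralizer]
    intro x _ y _
    exact Subtype.ext (hNab y y.2 x x.2)
  rw [this, Subgroup.index_bot]

theorem finish (hX : XGen.{u, u}) {G : Type u} [Group G] [Finite G] (hs : Group.IsSolvable G) {p q s : ℕ}
    (hp : p.Prime) (hq : q.Prime) (hpq : p ≠ q) (hsp : s.Prime)
    (N : Subgroup G) [hN : N.Normal] (hN1 : N ≠ ⊥) (hNs : IsPGroup s N)
    (hNab : ∀ x ∈ N, ∀ y ∈ N, x * y = y * x)
    (K H : Subgroup G) (hK : K.Normal) (h1 : K ⊓ H = ⊥) (h2 : K ⊔ H = ⊤)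
    (fp : FixP (dualAct N H) p) (fq : FixP (dualAct N H) q) (np : ¬ NSyl H p) (nq : ¬ NSyl H q) :
    ∃ χ : IrrCharacter G, p * q ∣ charDegree (χ : G → ℂ) := by
  haveI : Fact s.Prime := ⟨hsp⟩
  haveI := hK
  haveI := hs
  obtain ⟨n, hn⟩ := IsPGroup.iff_card.mp hNs
  have hc := card_dual N hNab
  haveI : Finite (N →* ℂˣ) := Nat.finite_of_card_ne_zero (by rw [hc]; exact Nat.card_pos.ne')
  have hH : Group.IsSolvable H := inferInstance
  obtain ⟨f, hf⟩ := exists_proj K H h1 h2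
  refine adj_of_surj f hf (hX hH (dualAct N H) hsp hp hq hpq (n := n) (by rw [hc, hn]) ?_ fp fq np nq)
  rw [hc]
  exact (Subgroup.one_lt_card_iff_ne_bot N).mpr hN1

theorem core_r (hA : CaseA.{u}) (hB : CaseB.{u}) (hBN : CaseBN.{u}) (hX : XGen.{u, u})
    {G : Type u} [Group G] [Finite G] (hs : Group.IsSolvable G) {p q r : ℕ} (hp : p.Prime) (hq : q.Prime)
    (hr : r.Prime) (hpq : p ≠ q) (hpr : p ≠ r) (hqr : q ≠ r)
    (N : Subgroup G) (hN : N.Normal) (hN1 : N ≠ ⊥)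
    (hmin : ∀ K : Subgroup G, K.Normal → K ≤ N → K = ⊥ ∨ K = N)
    (hrN : ¬ Rho (G ⧸ N) r) (rp : Rho G p) (rq : Rho G q) (rr : Rho G r)
    (npq : ¬ ∃ χ : IrrCharacter G, p * q ∣ charDegree (χ : G → ℂ))
    (npr : ¬ ∃ χ : IrrCharacter G, p * r ∣ charDegree (χ : G → ℂ))
    (nqr : ¬ ∃ χ : IrrCharacter G, q * r ∣ charDegree (χ : G → ℂ)) : False := by
  classical
  haveI := hN
  haveI := hs
  haveI : Fact r.Prime := ⟨hr⟩
  have hNsol : Group.IsSolvable N := inferInstance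
  obtain ⟨hNc, -⟩ := Solv.minimal_normal_of_solvable N hNsol hN1 hmin
  obtain ⟨s, hsp, hNs⟩ := Solv.minimal_normal_isPGroup N hNsol hN1 hmin
  haveI : Fact s.Prime := ⟨hsp⟩
  have hNab : ∀ x ∈ N, ∀ y ∈ N, x * y = y * x := fun x hx y hy => Solv.comm_of_isMulCommutative hNc hx hy
  have hqsol : Group.IsSolvable (G ⧸ N) := inferInstance
  have hno : ∀ χ : IrrCharacter (G ⧸ N), ¬ r ∣ charDegree (χ : G ⧸ N → ℂ) := fun χ h => hrN ⟨χ, h⟩
  obtain ⟨Pb, hPn, hPab, hPp, hPi⟩ := (S4493.result hqsol r hr).mpr hno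
  haveI := hPn
  set K : Subgroup G := Pb.comap (QuotientGroup.mk' N) with hKdef
  have hKn : K.Normal := by rw [hKdef]; infer_instance
  have hNK : N ≤ K := by
    intro x hx
    show (QuotientGroup.mk' N) x ∈ Pb
    have : (QuotientGroup.mk' N) x = 1 := (QuotientGroup.eq_one_iff x).mpr hx
    rw [this]; exact Pb.one_mem
  have hKi : K.index = Pb.index := Subgroup.index_comap_of_surjective Pb (QuotientGroup.mk'_surjective N)
  have hKcomm : ∀ x ∈ K, ∀ y ∈ K, x * y * x⁻¹ * y⁻¹ ∈ N := by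
    intro x hx y hy
    rw [← QuotientGroup.eq_one_iff]
    have h1 := hPab _ hx _ hy
    have h2 : ((x * y * x⁻¹ * y⁻¹ : G) : G ⧸ N) =
        (QuotientGroup.mk' N x) * (QuotientGroup.mk' N y) * (QuotientGroup.mk' N x)⁻¹ * (QuotientGroup.mk' N y)⁻¹ := rfl
    rw [h2, h1]; group
  rcases eq_or_ne s r with hsr | hsr
  · -- case B
    subst hsr
    have hKp : IsPGroup s K := by
      apply IsPGroup.comap_of_ker_isPGroup hPp
      rw [QuotientGroup.ker_mk']
      exact hNs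
    have hKS : Syl s K := ⟨hKp, by rw [hKi]; exact hPi⟩
    have hder : ⁅K, K⁆ = N := by
      have h1 : ⁅K, K⁆ ≤ N := by
        rw [Subgroup.commutator_le]
        intro x hx y hy
        exact hKcomm x hx y hy
      rcases hmin ⁅K, K⁆ inferInstance h1 with h2 | h2
      · exfalso
        obtain ⟨χ, hχ⟩ := rr
        refine (S4493.result hs s hr).mp ⟨K, hKn, ?_, hKp, hKS.2⟩ χ hχ
        intro x hx y hy
        rw [Subgroup.commutator_eq_bot_iff_le_centralizer] at h2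
        exact (Subgroup.mem_centralizer_iff.mp (h2 hy) x hx)
      · exact h2
    have hcen : ∀ x ∈ N, ∀ y ∈ K, x * y = y * x := by
      have hCn : (N ⊓ Subgroup.centralizer (K : Set G)).Normal := by
        haveI : (Subgroup.centralizer (K : Set G)).Normal := inferInstance
        infer_instance
      rcases hmin _ hCn inf_le_left with h2 | h2
      · exfalso
        haveI : Group.IsNilpotent K := hKp.isNilpotent
        have h3 : (N.subgroupOf K) ≠ ⊥ := by
          intro h4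
          rw [Subgroup.subgroupOf_eq_bot, disjoint_iff, inf_eq_left.mpr hNK] at h4
          exact hN1 h4
        have h4 := Solv.inf_center_ne_bot_of_nilpotent (G := K) (N.subgroupOf K) h3
        obtain ⟨x, hx1⟩ := Subgroup.ne_bot_iff_exists_ne_one.mp h4
        have h5 : ((x : K) : G) ∈ N := Subgroup.mem_subgroupOf.mp x.2.1
        have h6 : ((x : K) : G) ∈ Subgroup.centralizer (K : Set G) := by
          rw [Subgroup.mem_centralizer_iff]
          intro y hy
          have h7 := Subgroup.mem_center_iff.mp x.2.2 ⟨y, hy⟩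
          exact congrArg Subtype.val h7
        have h8 : ((x : K) : G) ∈ N ⊓ Subgroup.centralizer (K : Set G) := ⟨h5, h6⟩
        rw [h2, Subgroup.mem_bot] at h8
        exact hx1 (Subtype.ext (Subtype.ext h8))
      · intro x hx y hy
        rw [← h2] at hx
        exact (Subgroup.mem_centralizer_iff.mp hx.2 y hy).symm
    have hcop : Nat.Coprime (Nat.card K) K.index := by
      obtain ⟨m, hm⟩ := IsPGroup.iff_card.mp hKp
      rw [hm]
      exact Nat.Coprime.pow_left m ((Nat.Prime.coprime_iff_not_dvd hr).mpr hKS.2)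
    haveI := hKn
    obtain ⟨H, hH⟩ := Subgroup.exists_right_complement'_of_coprime hcop
    have h1 : K ⊓ H = ⊥ := disjoint_iff.mp hH.disjoint
    have h2 : K ⊔ H = ⊤ := hH.sup_eq_top
    have b := hB hs hp hr hpr N K H hKn hKS h1 h2 hNK hcen hder npr
    have c := hB hs hq hr hqr N K H hKn hKS h1 h2 hNK hcen hder nqr
    have fp : FixP (dualAct N H) p := fun ζ hζ => let ⟨P, h, _⟩ := b ζ hζ; ⟨P, h⟩
    have fq : FixP (dualAct N H) q := fun ζ hζ => let ⟨P, h, _⟩ := c ζ hζ; ⟨P, h⟩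
    have np : ¬ NSyl H p := fun h =>
      hBN hs hp hq hr hpr hqr hpq N K H hKn hKS h1 h2 hNK hcen hder hN1 b fq rp rq npq h
    have nq : ¬ NSyl H q := fun h =>
      hBN hs hq hp hr hqr hpr hpq.symm N K H hKn hKS h1 h2 hNK hcen hder hN1 c fp rq rp
        (by rw [mul_comm]; exact npq) h
    exact npq (finish hX hs hp hq hpq hsp N hN1 hNs hNab K H hKn h1 h2 fp fq np nq)
  · -- case A
    obtain ⟨R⟩ : Nonempty (Sylow r G) := inferInstance
    have hRp : IsPGroup r (R : Subgroup G) := R.2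
    have hRi : ¬ r ∣ (R : Subgroup G).index := R.not_dvd_index
    have hRK : (R : Subgroup G) ≤ K := by
      intro x hx
      haveI := hKn
      have h1 : ((x : G) : G ⧸ K) = 1 := by
        obtain ⟨i, hi⟩ := hRp ⟨x, hx⟩
        have h2 : x ^ r ^ i = 1 := congrArg Subtype.val hi
        have h3 : orderOf ((x : G) : G ⧸ K) ∣ r ^ i := by
          apply orderOf_dvd_of_pow_eq_one
          rw [← QuotientGroup.mk_pow, h2]; rfl
        have h4 : orderOf ((x : G) : G ⧸ K) ∣ K.index := by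
          rw [Subgroup.index]
          exact orderOf_dvd_natCard _
        have h5 : Nat.Coprime (r ^ i) K.index :=
          Nat.Coprime.pow_left i ((Nat.Prime.coprime_iff_not_dvd hr).mpr (by rw [hKi]; exact hPi))
        have h6 := Nat.dvd_gcd h3 h4
        rw [h5, Nat.dvd_one] at h6
        exact orderOf_eq_one_iff.mp h6
      exact (QuotientGroup.eq_one_iff x).mp h1
    have hNRK : N ⊔ (R : Subgroup G) = K := by
      apply le_antisymm (sup_le hNK hRK)
      rw [← Subgroup.relIndex_eq_one]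
      have h1 : (N ⊔ (R : Subgroup G)).relIndex K ∣ (R : Subgroup G).index :=
        (Subgroup.relIndex_dvd_index_of_le (sup_le hNK hRK)).trans (Subgroup.index_dvd_of_le le_sup_right)
      have h2 : (N ⊔ (R : Subgroup G)).relIndex K ∣ Nat.card Pb := by
        have h3 : (N ⊔ (R : Subgroup G)).relIndex K ∣ N.relIndex K :=
          Subgroup.relIndex_dvd_of_le_left K le_sup_left
        have h4 : N.relIndex K = Nat.card Pb := by
          have h5 : (⊥ : Subgroup (G ⧸ N)).comap (QuotientGroup.mk' N) = N := by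
            rw [MonoidHom.comap_bot]; exact QuotientGroup.ker_mk' N
          have h6 := Subgroup.relIndex_comap (H := (⊥ : Subgroup (G ⧸ N))) (QuotientGroup.mk' N) K
          rw [h5] at h6
          rw [h6, hKdef, Subgroup.map_comap_eq_self_of_surjective (QuotientGroup.mk'_surjective N),
            Subgroup.relIndex_bot_left]
        rwa [h4] at h3
      obtain ⟨m, hm⟩ := IsPGroup.iff_card.mp hPp
      rw [hm] at h2
      have h5 : Nat.Coprime (r ^ m) (R : Subgroup G).index :=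
        Nat.Coprime.pow_left m ((Nat.Prime.coprime_iff_not_dvd hr).mpr hRi)
      have h6 := Nat.dvd_gcd h2 h1
      rwa [h5, Nat.dvd_one] at h6
    have hRab : ∀ x ∈ (R : Subgroup G), ∀ y ∈ (R : Subgroup G), x * y = y * x := by
      intro x hx y hy
      have h1 : x * y * x⁻¹ * y⁻¹ ∈ N := hKcomm x (hRK hx) y (hRK hy)
      have h2 : x * y * x⁻¹ * y⁻¹ ∈ (R : Subgroup G) :=
        (R : Subgroup G).mul_mem ((R : Subgroup G).mul_mem ((R : Subgroup G).mul_mem hx hy)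
          ((R : Subgroup G).inv_mem hx)) ((R : Subgroup G).inv_mem hy)
      have h3 : x * y * x⁻¹ * y⁻¹ = 1 := by
        obtain ⟨i, hi⟩ := hNs ⟨_, h1⟩
        obtain ⟨j, hj⟩ := hRp ⟨_, h2⟩
        have h3 := congrArg Subtype.val hi
        have h4 := congrArg Subtype.val hj
        have h5 : orderOf (x * y * x⁻¹ * y⁻¹) ∣ Nat.gcd (s ^ i) (r ^ j) :=
          Nat.dvd_gcd (orderOf_dvd_of_pow_eq_one h3) (orderOf_dvd_of_pow_eq_one h4)
        rw [Nat.Coprime.gcd_eq_one (Nat.Coprime.pow i j ((Nat.coprime_primes hsp hr).mpr hsr)), Nat.dvd_one] at h5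
        exact orderOf_eq_one_iff.mp h5
      calc x * y = x * y * x⁻¹ * y⁻¹ * (y * x) := by group
        _ = y * x := by rw [h3, one_mul]
    obtain ⟨H, h1, h2, fp, fq, np, nq⟩ := hA hs hp hq hr hsp hpr hqr hsr N hNs hNab hmin R ⟨hRp, hRi⟩ hRab
      (by rw [hNRK]; exact hKn) rp rq rr npr nqr
    exact npq (finish hX hs hp hq hpq hsp N hN1 hNs hNab N H hN h1 h2 fp fq np nq)

theorem main (hA : CaseA.{u}) (hB : CaseB.{u}) (hBN : CaseBN.{u}) (hX : XGen.{u, u}) :
    ∀ n : ℕ, ∀ (G : Type u) [Group G] [Finite G], Group.IsSolvable G → Nat.card G = n →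
    ∀ {p q r : ℕ}, p.Prime → q.Prime → r.Prime → p ≠ q → p ≠ r → q ≠ r → Rho G p → Rho G q → Rho G r →
      (∃ χ : IrrCharacter G, p * q ∣ charDegree (χ : G → ℂ)) ∨
      (∃ χ : IrrCharacter G, q * r ∣ charDegree (χ : G → ℂ)) ∨
      (∃ χ : IrrCharacter G, p * r ∣ charDegree (χ : G → ℂ)) := by
  intro n
  induction n using Nat.strong_induction_on with
  | _ n ih =>
    intro G _ _ hs hn p q r hp hq hr hpq hpr hqr rp rq rr
    classical
    by_contra hcon
    push Not at hcon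
    obtain ⟨npq, nqr, npr⟩ := hcon
    haveI := hs
    have npq' : ¬ ∃ χ : IrrCharacter G, p * q ∣ charDegree (χ : G → ℂ) := by
      rintro ⟨χ, h⟩; exact npq χ h
    have nqr' : ¬ ∃ χ : IrrCharacter G, q * r ∣ charDegree (χ : G → ℂ) := by
      rintro ⟨χ, h⟩; exact nqr χ h
    have npr' : ¬ ∃ χ : IrrCharacter G, p * r ∣ charDegree (χ : G → ℂ) := by
      rintro ⟨χ, h⟩; exact npr χ h
    have hnt : (⊤ : Subgroup G) ≠ ⊥ := by
      intro h
      obtain ⟨χ, hχ⟩ := rp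
      have h1 : ¬ p ∣ charDegree (χ : G → ℂ) := by
        refine (S4493.result hs p hp).mp ⟨⊥, inferInstance, ?_, IsPGroup.of_bot, ?_⟩ χ
        · intro x hx y hy
          rw [Subgroup.mem_bot] at hx hy
          rw [hx, hy]
        · rw [← h, Subgroup.index_top]
          exact fun h => hp.one_lt.ne' (Nat.dvd_one.mp h)
      exact h1 hχ
    obtain ⟨N, hN, -, hN1, hmin⟩ := Solv.exists_minimal_normal (⊤ : Subgroup G) inferInstance hnt
    haveI := hN
    have hlt : Nat.card (G ⧸ N) < n := by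
      rw [← hn, Subgroup.card_eq_card_quotient_mul_card_subgroup N]
      have h1 : 1 < Nat.card N := (Subgroup.one_lt_card_iff_ne_bot N).mpr hN1
      have h2 : 0 < Nat.card (G ⧸ N) := Nat.card_pos
      nlinarith
    have hqs : Group.IsSolvable (G ⧸ N) := inferInstance
    have key : ¬ (Rho (G ⧸ N) p ∧ Rho (G ⧸ N) q ∧ Rho (G ⧸ N) r) := by
      rintro ⟨h1, h2, h3⟩
      rcases ih _ hlt (G ⧸ N) hqs rfl hp hq hr hpq hpr hqr h1 h2 h3 with h | h | h
      · exact npq' (adj_of_surj (QuotientGroup.mk' N) (QuotientGroup.mk'_surjective N) h)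
      · exact nqr' (adj_of_surj (QuotientGroup.mk' N) (QuotientGroup.mk'_surjective N) h)
      · exact npr' (adj_of_surj (QuotientGroup.mk' N) (QuotientGroup.mk'_surjective N) h)
    by_cases h1 : Rho (G ⧸ N) p
    · by_cases h2 : Rho (G ⧸ N) q
      · have h3 : ¬ Rho (G ⧸ N) r := fun h => key ⟨h1, h2, h⟩
        exact core_r hA hB hBN hX hs hp hq hr hpq hpr hqr N hN hN1 hmin h3 rp rq rr npq' npr' nqr'
      · exact core_r hA hB hBN hX hs hp hr hq hpr hpq hqr.symm N hN hN1 hmin h2 rp rr rq npr' npq'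
          (by rw [mul_comm]; exact nqr')
    · exact core_r hA hB hBN hX hs hq hr hp hqr hpq.symm hpr.symm N hN hN1 hmin h1 rq rr rp nqr'
          (by rw [mul_comm]; exact npq') (by rw [mul_comm]; exact npr')

end Cfsg.Agent.H25.PalMain
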