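import Cfsg.Agent.H25.PalMain
import Cfsg.Agent.H25.PalA1
import Cfsg.Agent.H25.PalA2
import Cfsg.Agent.H25.PalA3
import Cfsg.Agent.H25.PalA4
import Cfsg.Agent.H25.PalA5
import Cfsg.Agent.H25.PalA7

set_option autoImplicit false

namespace Cfsg.Agent.H25.PalXF

open Cfsg Cfsg.Agent.H25.Pal Cfsg.Agent.H25.PalX Cfsg.Agent.H25.PalMain

universe u v

theorem count : Count.{u, v} := by
  intro H W _ _ _ _ a p _ h P
  exact PalA1.count a h P

theorem num : PalX.Num := by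
  intro s n p q k l a b h1 h2 h3 h4 h5 h6 h7 h8 h9 h10 h11 h12
  exact PalA2.num h1 h2 h3 h4 h5 h6 h7 h8 h9 h10 h11 h12

theorem adjM : AdjM.{u} := by
  intro H _ _ L M h1 h2 h3 h4 p q t h5 h6 h7 h8 h9 h10 x y h11 h12 h13 h14 h15 h16 h17 h18
  exact PalA3.adj_of_moved L M h1 h2 h3 h4 h5 h6 h7 h8 h9 h10 h11 h12 h13 h14 h15 h16 h17 h18

theorem exLM : ExLM.{u} := by
  intro H _ _ h1 p q h2 h3 h4 P Q h5 h6 h7 h8 h9
  exact PalA4.exists_LM h1 h2 h3 h4 h5 h6 h7 h8 h9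

theorem exc : Exc.{u, v} := by
  intro H W _ _ _ _ a h1 h2 L h3 p h4 x h5 h6 h7 h8
  exact PalA7.exceptional a h1 h2 h3 h4 h5 h6 h7 h8

theorem xfaith {H : Type u} {W : Type v} [Group H] [Finite H] (hs : Group.IsSolvable H) [Group W] [Finite W]
    (a : H →* MulAut W) (hf : Function.Injective a) {s n p q : ℕ} (hsp : s.Prime) (hp : p.Prime) (hq : q.Prime)
    (hpq : p ≠ q) (hW : Nat.card W = s ^ n) (hP : FixP a p) (hQ : FixP a q)
    (hnP : ¬ NSyl H p) (hnQ : ¬ NSyl H q) : ∃ χ : IrrCharacter H, p * q ∣ charDegree (χ : H → ℂ) :=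
  X_faithful_of count num adjM exLM exc hs a hf hsp hp hq hpq hW hP hQ hnP hnQ

theorem xgen : XGen.{u, v} := by
  intro H W _ _ hs _ _ a s n p q hsp hp hq hpq hW hW1 hP hQ hnP hnQ
  refine PalA5.X_general_of ?_ hs a hsp hp hq hpq hW hW1 hP hQ hnP hnQ
  intro H' W' _ _ hs' _ _ a' hf s' n' p' q' hsp' hp' hq' hpq' hW' hP' hQ' hnP' hnQ'
  exact xfaith hs' a' hf hsp' hp' hq' hpq' hW' hP' hQ' hnP' hnQ'

end Cfsg.Agent.H25.PalXF
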