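import Cfsg.Agent.H25.ValField
import Cfsg.Agent.MaxClass.TwoGroups
import Cfsg.Agent.H72.Basic

/-!
# Cyclic 2-subgroups, their normalizers, and S4923
-/

set_option autoImplicit false
set_option linter.style.haveILetI false

namespace Cfsg.Agent.H25

open Cfsg Cfsg.Agent Subgroup
open scoped commutatorElement

variable {G : Type*} [Group G] [Finite G]

theorem exists_mem_sylow_conj {g : G} {a : ℕ} (ha : orderOf g = 2 ^ a)
    (Q : Sylow 2 (normalizer (zpowers g : Set G))) {x : G} (hx : x ∈ normalizer (zpowers g : Set G)) :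
    ∃ q : normalizer (zpowers g : Set G), q ∈ Q ∧ (q : G) * g * (q : G)⁻¹ = x * g * x⁻¹ := by
  haveI : Fact (Nat.Prime 2) := ⟨Nat.prime_two⟩
  let f := (zpowers g).normalizerMonoidHom
  have hA : IsPGroup 2 (MulAut (zpowers g)) := by
    have h1 : Nat.card (MulAut (zpowers g)) = Nat.totient (Nat.card (zpowers g)) :=
      IsCyclic.card_mulAut _
    rw [Nat.card_zpowers, ha] at h1
    rcases Nat.eq_zero_or_pos a with rfl | h0
    · exact IsPGroup.of_card (n := 0) (by rw [h1]; simp)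
    · rw [Nat.totient_prime_pow Nat.prime_two h0] at h1
      exact IsPGroup.of_card (n := a - 1) (by rw [h1]; simp)
  have hR : IsPGroup 2 f.range := hA.to_subgroup _
  have hs : Function.Surjective f.rangeRestrict := f.rangeRestrict_surjective
  have htop : ((Q.mapSurjective hs : Sylow 2 f.range) : Subgroup f.range) = ⊤ := by
    apply top_unique
    have := (Q.mapSurjective hs).is_maximal' (Q := ⊤) (hR.to_subgroup _) le_top
    exact this.le
  have hx1 : f.rangeRestrict ⟨x, hx⟩ ∈ ((Q.mapSurjective hs : Sylow 2 f.range) : Subgroup f.range) := by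
    rw [htop]; exact mem_top _
  rw [Sylow.coe_mapSurjective] at hx1
  obtain ⟨q, hq, hqx⟩ := hx1
  refine ⟨q, hq, ?_⟩
  have h1 : f q = f ⟨x, hx⟩ := congrArg Subtype.val hqx
  have h2 := congrArg (fun e : MulAut (zpowers g) => ((e ⟨g, mem_zpowers g⟩ : zpowers g) : G)) h1
  exact h2

theorem mem_normalizer_zpowers {g x : G} (hx : x * g * x⁻¹ ∈ zpowers g) :
    x ∈ normalizer (zpowers g : Set G) := by
  have h1 : (zpowers g).map (MulAut.conj x).toMonoidHom ≤ zpowers g := by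
    rw [MonoidHom.map_zpowers, zpowers_le]
    exact hx
  have h2 : (zpowers g).map (MulAut.conj x).toMonoidHom = zpowers g := by
    apply Subgroup.eq_of_le_of_card_ge h1
    rw [Subgroup.card_map_of_injective (MulAut.conj x).injective]
  rw [mem_normalizer_iff]
  intro y
  constructor
  · intro hy
    have : (MulAut.conj x).toMonoidHom y ∈ (zpowers g).map (MulAut.conj x).toMonoidHom := mem_map_of_mem _ hy
    rw [h2] at this
    exact this
  · intro hy
    have hy' : x * y * x⁻¹ ∈ (zpowers g).map (MulAut.conj x).toMonoidHom := by rw [h2]; exact hy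
    obtain ⟨z, hz, hzy⟩ := hy'
    have : x * z * x⁻¹ = x * y * x⁻¹ := hzy
    have h3 : z = y := mul_left_cancel (mul_right_cancel this)
    rw [← h3]; exact hz

theorem exists_sylow_conj {g x : G} {a : ℕ} (ha : orderOf g = 2 ^ a) (hx : x * g * x⁻¹ ∈ zpowers g) :
    ∃ P : Sylow 2 G, g ∈ P ∧ ∃ q ∈ P, q * g * q⁻¹ = x * g * x⁻¹ := by
  haveI : Fact (Nat.Prime 2) := ⟨Nat.prime_two⟩
  obtain ⟨Q⟩ : Nonempty (Sylow 2 (normalizer (zpowers g : Set G))) := inferInstance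
  obtain ⟨q, hq, hqx⟩ := exists_mem_sylow_conj ha Q (mem_normalizer_zpowers hx)
  have hgN : zpowers g ≤ normalizer (zpowers g : Set G) := le_normalizer
  have hg2 : IsPGroup 2 (zpowers g) := IsPGroup.of_card (n := a) (by rw [Nat.card_zpowers, ha])
  have hnorm : ((zpowers g).subgroupOf (normalizer (zpowers g : Set G))).Normal := inferInstance
  have hgQ : (⟨g, hgN (mem_zpowers g)⟩ : normalizer (zpowers g : Set G)) ∈ (Q : Subgroup _) := by
    have h1 : (zpowers g).subgroupOf (normalizer (zpowers g : Set G)) ≤ (Q : Subgroup _) := by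
      have h2 : IsPGroup 2 ((zpowers g).subgroupOf (normalizer (zpowers g : Set G))) :=
        hg2.of_equiv (subgroupOfEquivOfLe hgN).symm
      have h3 : IsPGroup 2 (((Q : Subgroup _) ⊔ (zpowers g).subgroupOf (normalizer (zpowers g : Set G)) :
          Subgroup _)) := IsPGroup.to_sup_of_normal_right Q.isPGroup' h2
      have h4 := Q.is_maximal' h3 le_sup_left
      rw [← h4]
      exact le_sup_right
    exact h1 (mem_zpowers g)
  have hQG : IsPGroup 2 ((Q : Subgroup _).map (Subgroup.subtype (normalizer (zpowers g : Set G)))) := Q.isPGroup'.map _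
  obtain ⟨P, hP⟩ := hQG.exists_le_sylow
  exact ⟨P, hP ⟨_, hgQ, rfl⟩, q, hP ⟨q, hq, rfl⟩, hqx⟩

/-- the index computation -/
theorem index_commutator_eq_four {S : Type*} [Group S] [Finite S] {n : ℕ} (hn : 4 ≤ n) (hS : Nat.card S = 2 ^ n)
    {g q : S} (hg : orderOf g = 2 ^ (n - 1)) {c : ℕ} (hc : c = 2 ^ (n - 1) - 1 ∨ c = 2 ^ (n - 2) - 1)
    (hq : q * g * q⁻¹ = g ^ c) : (commutator S).index = 4 := by
  haveI : Fact (Nat.Prime 2) := ⟨Nat.prime_two⟩
  obtain ⟨l, rfl⟩ : ∃ l, n = l + 4 := ⟨n - 4, by omega⟩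
  have e1 : l + 4 - 1 = l + 3 := by omega
  have e2 : l + 4 - 2 = l + 2 := by omega
  rw [e1] at hg hc
  rw [e2] at hc
  have hpos : 1 ≤ 2 ^ l := Nat.one_le_two_pow
  have hp3 : 2 ^ (l + 3) = 8 * 2 ^ l := by rw [pow_add]; ring
  have hp2 : 2 ^ (l + 2) = 4 * 2 ^ l := by rw [pow_add]; ring
  have hp4 : 2 ^ (l + 4) = 16 * 2 ^ l := by rw [pow_add]; ring
  obtain ⟨d, hd⟩ : ∃ d, c = 2 * (2 * d + 1) + 1 := by
    rcases hc with hc | hc
    · exact ⟨2 ^ (l + 1) - 1, by rw [hc, hp3, pow_succ]; omega⟩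
    · exact ⟨2 ^ l - 1, by rw [hc, hp2]; omega⟩
  have hcomm : g ^ (2 * (2 * d + 1)) ∈ commutator S := by
    have h1 : ⁅q, g⁆ = g ^ (2 * (2 * d + 1)) := by
      rw [commutatorElement_def, hq, hd, pow_succ, mul_inv_cancel_right]
    rw [← h1]
    exact commutator_mem_commutator (mem_top q) (mem_top g)
  have hord : orderOf (g ^ (2 * (2 * d + 1))) = 2 ^ (l + 2) := by
    rw [orderOf_pow, hg]
    have h1 : Nat.gcd (2 ^ (l + 3)) (2 * (2 * d + 1)) = 2 := by
      rw [pow_succ, mul_comm (2 ^ (l + 2)) 2, Nat.gcd_mul_left]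
      have : Nat.gcd (2 ^ (l + 2)) (2 * d + 1) = 1 := by
        apply Nat.Coprime.pow_left
        rw [Nat.coprime_two_left]
        exact ⟨d, rfl⟩
      rw [this]
    rw [h1, pow_succ]
    simp
  have hdvd : 2 ^ (l + 2) ∣ Nat.card (commutator S) := by
    rw [← hord]
    exact (commutator S).orderOf_dvd_natCard hcomm
  have hne : commutator S ≠ ⊥ := by
    intro h
    rw [h, mem_bot] at hcomm
    rw [hcomm, orderOf_one] at hord
    omega
  have h4 : 2 ^ 2 ∣ (commutator S).index := MaxClass.sq_dvd_index_commutator (IsPGroup.of_card hS) hne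
  have hmul := (commutator S).card_mul_index
  obtain ⟨u, hu⟩ := hdvd
  obtain ⟨v, hv⟩ := h4
  rw [hu, hv, hS, hp4, hp2] at hmul
  have : u * v = 1 := by
    have h5 : (16 * 2 ^ l) * (u * v) = (16 * 2 ^ l) * 1 := by
      calc (16 * 2 ^ l) * (u * v) = 4 * 2 ^ l * u * (2 ^ 2 * v) := by ring
        _ = _ := by rw [hmul]; ring
    exact Nat.eq_of_mul_eq_mul_left (by positivity) h5
  rw [hv, Nat.eq_one_of_mul_eq_one_left this]
  rfl

theorem odd_index_centralizer {P : Sylow 2 G} {g : G} (h : (P : Subgroup G) ≤ centralizer {g}) :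
    ¬ 2 ∣ (centralizer {g}).index := by
  haveI : Fact (Nat.Prime 2) := ⟨Nat.prime_two⟩
  intro h2
  exact P.not_dvd_index (h2.trans (index_dvd_of_le h))

/-- from the class condition to the index -/
theorem index_of_class {P : Sylow 2 G} {n : ℕ} (hn : 3 ≤ n) (hP : Nat.card P = 2 ^ n) {g : G} (hg : g ∈ (P : Subgroup G))
    (heven : 2 ∣ (centralizer ({g} : Set G)).index) {c : ℕ} (hc : c = 2 ^ (n - 1) - 1 ∨ c = 2 ^ (n - 2) - 1)
    (hconj : ∀ j : ℕ, Odd j → (IsConj g (g ^ j) ↔ j ≡ 1 [MOD 2 ^ (n - 1)] ∨ j ≡ c [MOD 2 ^ (n - 1)])) :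
    (_root_.commutator P).index = 4 := by
  haveI : Fact (Nat.Prime 2) := ⟨Nat.prime_two⟩
  have hPG : IsPGroup 2 P := P.isPGroup'
  rcases Nat.lt_or_ge n 4 with hn4 | hn4
  · -- n = 3
    obtain rfl : n = 3 := by omega
    have hne : _root_.commutator P ≠ ⊥ := by
      intro h
      refine odd_index_centralizer (P := P) (g := g) ?_ heven
      intro x hx
      rw [mem_centralizer_singleton_iff]
      have := MaxClass.comm_of_commutator_eq_bot h ⟨x, hx⟩ ⟨g, hg⟩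
      exact congrArg Subtype.val this
    have h4 : 2 ^ 2 ∣ (_root_.commutator P).index := MaxClass.sq_dvd_index_commutator hPG hne
    have hmul := (_root_.commutator P).card_mul_index
    obtain ⟨v, hv⟩ := h4
    have h1 : Nat.card (_root_.commutator P) ≠ 1 := by
      intro h; exact hne (Subgroup.card_eq_one.1 h)
    rw [hv, hP] at hmul
    have h2 : Nat.card (_root_.commutator P) * v = 2 := by
      have : 4 * (Nat.card (_root_.commutator P) * v) = 4 * 2 := by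
        calc _ = Nat.card (_root_.commutator P) * (2 ^ 2 * v) := by ring
          _ = _ := by rw [hmul]; norm_num
      omega
    have h3 : v ∣ 2 := ⟨_, by rw [mul_comm]; exact h2.symm⟩
    rcases (Nat.dvd_prime Nat.prime_two).1 h3 with rfl | rfl
    · rw [hv]; rfl
    · exact absurd (by omega) h1
  · -- n ≥ 4
    obtain ⟨a, ha⟩ : ∃ a, orderOf g = 2 ^ a := by
      obtain ⟨k, hk⟩ := hPG ⟨g, hg⟩
      obtain ⟨a, -, ha⟩ := (Nat.dvd_prime_pow Nat.prime_two).1 (orderOf_dvd_of_pow_eq_one hk)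
      exact ⟨a, by rw [← ha, Subgroup.orderOf_mk]⟩
    obtain ⟨l, rfl⟩ : ∃ l, n = l + 4 := ⟨n - 4, by omega⟩
    have e1 : l + 4 - 1 = l + 3 := by omega
    have e2 : l + 4 - 2 = l + 2 := by omega
    rw [e1] at hc hconj
    rw [e2] at hc
    have hpos : 1 ≤ 2 ^ l := Nat.one_le_two_pow
    have hp3 : 2 ^ (l + 3) = 8 * 2 ^ l := by rw [pow_add]; ring
    have hp2 : 2 ^ (l + 2) = 4 * 2 ^ l := by rw [pow_add]; ring
    have hp4 : 2 ^ (l + 4) = 16 * 2 ^ l := by rw [pow_add]; ring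
    have hle : a ≤ l + 4 := by
      have h1 : orderOf g ∣ Nat.card P := (P : Subgroup G).orderOf_dvd_natCard hg
      rw [ha, hP] at h1
      exact (Nat.pow_dvd_pow_iff_le_right (by norm_num)).1 h1
    have hne : a ≠ l + 4 := by
      rintro rfl
      refine odd_index_centralizer (P := P) (g := g) ?_ heven
      have h1 : zpowers g = (P : Subgroup G) := by
        apply Subgroup.eq_of_le_of_card_ge (by rwa [zpowers_le])
        rw [Nat.card_zpowers, ha, hP]
      rw [← h1]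
      intro x hx
      obtain ⟨i, rfl⟩ := hx
      rw [mem_centralizer_singleton_iff]
      exact ((Commute.refl g).zpow_left i).eq
    have hge : l + 3 ≤ a := by
      by_contra hlt
      push Not at hlt
      have h1 : g ^ (1 + 2 ^ (l + 2)) = g := by
        have : orderOf g ∣ 2 ^ (l + 2) := by rw [ha]; exact pow_dvd_pow 2 (by omega)
        rw [pow_add, pow_one, orderOf_dvd_iff_pow_eq_one.1 this, mul_one]
      have h2 : Odd (1 + 2 ^ (l + 2)) := ⟨2 * 2 ^ l, by rw [hp2]; ring⟩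
      have h3 := (hconj _ h2).1 (by rw [h1])
      rcases h3 with h3 | h3
      · have h4 : 2 ^ (l + 2) ≡ 0 [MOD 2 ^ (l + 3)] := by
          have : 1 + 2 ^ (l + 2) ≡ 1 + 0 [MOD 2 ^ (l + 3)] := h3
          exact Nat.ModEq.add_left_cancel' 1 this
        have h5 := (Nat.modEq_zero_iff_dvd.1 h4)
        have := Nat.le_of_dvd (by positivity) h5
        omega
      · -- 1 + 2^(l+2) ≡ c
        have h4 : (4 : ℕ) ∣ 2 ^ (l + 3) := by rw [hp3]; exact ⟨2 * 2 ^ l, by ring⟩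
        have h5 : 1 + 2 ^ (l + 2) ≡ c [MOD 4] := h3.of_dvd h4
        rw [Nat.ModEq] at h5
        rcases hc with hc | hc <;> rw [hc] at h5 <;> omega
    have haeq : a = l + 3 := by omega
    subst haeq
    have hodd : Odd c := by
      rcases hc with hc | hc
      · exact ⟨4 * 2 ^ l - 1, by omega⟩
      · exact ⟨2 * 2 ^ l - 1, by omega⟩
    obtain ⟨x, hx⟩ := isConj_iff.1 ((hconj c hodd).2 (Or.inr rfl))
    obtain ⟨P1, hg1, q, hq, hqx⟩ := exists_sylow_conj (x := x) ha (by rw [hx]; exact (zpowers g).pow_mem (mem_zpowers g) c)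
    have hi : (_root_.commutator P1).index = 4 := by
      refine index_commutator_eq_four (S := P1) (n := l + 4) hn4 ?_ (g := ⟨g, hg1⟩) (q := ⟨q, hq⟩) ?_ (c := c) (by rw [e1, e2]; exact hc) ?_
      · rw [← hP, Nat.card_congr (Sylow.equiv P1 P).toEquiv]
      · rw [e1, Subgroup.orderOf_mk]; exact ha
      · apply Subtype.ext
        change q * g * q⁻¹ = g ^ c
        rw [hqx, hx]
    have e := Sylow.equiv P1 P
    have h6 : (_root_.commutator P).index = (_root_.commutator P1).index := by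
      have h7 : Nat.card (Abelianization P) = Nat.card (Abelianization P1) := Nat.card_congr e.symm.abelianizationCongr.toEquiv
      exact h7
    rw [h6, hi]

theorem class_of_index {P : Sylow 2 G} {n : ℕ} (hn : 3 ≤ n) (hP : Nat.card P = 2 ^ n)
    (hidx : (_root_.commutator P).index = 4) :
    ∃ g : G, g ∈ (P : Subgroup G) ∧ 2 ∣ (centralizer ({g} : Set G)).index ∧ orderOf g = 2 ^ (n - 1) ∧
      ∃ c : ℕ, (c = 2 ^ (n - 1) - 1 ∨ c = 2 ^ (n - 2) - 1) ∧
        ∀ j : ℕ, IsConj g (g ^ j) ↔ j ≡ 1 [MOD 2 ^ (n - 1)] ∨ j ≡ c [MOD 2 ^ (n - 1)] := by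
  haveI : Fact (Nat.Prime 2) := ⟨Nat.prime_two⟩
  obtain ⟨a, b, ha, hb, hs⟩ := MaxClass.structure_of_index_commutator hn hP hidx
  obtain ⟨l, rfl⟩ : ∃ l, n = l + 3 := ⟨n - 3, by omega⟩
  have e1 : l + 3 - 1 = l + 2 := by omega
  have e2 : l + 3 - 2 = l + 1 := by omega
  rw [e1] at ha ⊢
  rw [e2] at hs ⊢
  have hpos : 1 ≤ 2 ^ l := Nat.one_le_two_pow
  have hp3 : 2 ^ (l + 3) = 8 * 2 ^ l := by rw [pow_add]; ring
  have hp2 : 2 ^ (l + 2) = 4 * 2 ^ l := by rw [pow_add]; ring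
  have hp1 : 2 ^ (l + 1) = 2 * 2 ^ l := by rw [pow_add]; ring
  -- the exponent c
  obtain ⟨c, hc, hbc⟩ : ∃ c : ℕ, (c = 2 ^ (l + 2) - 1 ∨ (1 ≤ l ∧ c = 2 ^ (l + 1) - 1)) ∧ b * a * b⁻¹ = a ^ c := by
    have hinv : a⁻¹ = a ^ (2 ^ (l + 2) - 1) := by
      rw [inv_eq_iff_mul_eq_one, ← pow_succ', Nat.sub_add_cancel (by omega), ← ha, pow_orderOf_eq_one]
    rcases hs with ⟨-, h⟩ | ⟨-, h⟩ | ⟨h4, -, h⟩
    · exact ⟨_, Or.inl rfl, by rw [h, hinv]⟩
    · exact ⟨_, Or.inl rfl, by rw [h, hinv]⟩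
    · exact ⟨_, Or.inr ⟨by omega, rfl⟩, h⟩
  have hcu : ∃ u : ℤ, Odd u ∧ 1 - (c : ℤ) = 2 * u := by
    rcases hc with hc | ⟨hl, hc⟩
    · refine ⟨1 - 2 * 2 ^ l, ⟨-2 ^ l, by ring⟩, ?_⟩
      have : (c : ℤ) = 4 * 2 ^ l - 1 := by rw [hc, hp2]; push_cast [Nat.cast_sub (show 1 ≤ 4 * 2 ^ l by omega)]; ring
      rw [this]; ring
    · refine ⟨1 - 2 ^ l, ?_, ?_⟩
      · obtain ⟨l', rfl⟩ : ∃ l', l = l' + 1 := ⟨l - 1, by omega⟩
        exact ⟨-2 ^ l', by rw [pow_succ]; ring⟩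
      · have : (c : ℤ) = 2 * 2 ^ l - 1 := by rw [hc, hp1]; push_cast [Nat.cast_sub (show 1 ≤ 2 * 2 ^ l by omega)]; ring
        rw [this]; ring
  obtain ⟨u, hu, huc⟩ := hcu
  have hcen := MaxClass.center_eq_zpowers (n := l + 3) (by omega) hP (by rw [e1]; exact ha) hb
    (κ := (c : ℤ)) (by rw [zpow_natCast]; exact hbc) hu huc
  rw [e2] at hcen
  have hcard : Nat.card (center P) = 2 := by
    rw [hcen, Nat.card_zpowers, orderOf_pow, ha, Nat.gcd_eq_right (by rw [hp2, hp1]; exact ⟨2, by ring⟩), hp2, hp1]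
    rw [show 4 * 2 ^ l = 2 * (2 * 2 ^ l) by ring, Nat.mul_div_cancel _ (by positivity)]
  have hag : orderOf (a : G) = 2 ^ (l + 2) := by rw [Subgroup.orderOf_coe, ha]
  refine ⟨a, a.2, ?_, hag, c, ?_, ?_⟩
  · -- even class size
    by_contra hodd
    obtain ⟨Q, hQ⟩ := H72.exists_sylow_le_of_not_dvd_index (p := 2) (centralizer ({(a : G)} : Set G)) hodd
    have hQc : ∀ x ∈ (Q : Subgroup G), x * (a : G) = (a : G) * x := fun x hx => by
      have := hQ hx
      rwa [mem_centralizer_singleton_iff] at this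
    have haQ : (a : G) ∈ (Q : Subgroup G) := by
      have hz : IsPGroup 2 (zpowers (a : G)) := IsPGroup.of_card (n := l + 2) (by rw [Nat.card_zpowers, hag])
      have h1 : (Q : Subgroup G) ≤ normalizer (zpowers (a : G) : Set G) := by
        intro x hx
        apply mem_normalizer_zpowers
        rw [hQc x hx, mul_inv_cancel_right]
        exact mem_zpowers _
      have h3 := IsPGroup.to_sup_of_normal_right' Q.isPGroup' hz h1
      have h4 := Q.is_maximal' h3 le_sup_left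
      rw [← h4]
      exact mem_sup_right (mem_zpowers _)
    have e := Sylow.equiv Q P
    have h5 : Nat.card (center (Q : Subgroup G)) = 2 :=
      (Nat.card_congr (Subgroup.centerCongr e).toEquiv).trans hcard
    have h6 : (⟨(a : G), haQ⟩ : (Q : Subgroup G)) ∈ center (Q : Subgroup G) := by
      rw [mem_center_iff]
      rintro ⟨x, hx⟩
      exact Subtype.ext (hQc x hx)
    have h7 := (center (Q : Subgroup G)).orderOf_dvd_natCard h6
    rw [h5, Subgroup.orderOf_mk, hag] at h7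
    have := Nat.le_of_dvd (by norm_num) h7
    omega
  · rcases hc with hc | hc
    · exact Or.inl hc
    · exact Or.inr hc.2
  · -- conjugacy
    intro j
    have hidx2 := MaxClass.index_zpowers_of_orderOf (n := l + 3) (by omega) hP (by rw [e1]; exact ha)
    have hn' : (zpowers a).Normal := Subgroup.normal_of_index_eq_two hidx2
    constructor
    · intro h
      obtain ⟨x, hx⟩ := isConj_iff.1 h
      have hPN : (P : Subgroup G) ≤ normalizer (zpowers (a : G) : Set G) := by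
        intro y hy
        apply mem_normalizer_zpowers
        have h1 := hn'.conj_mem a (mem_zpowers a) ⟨y, hy⟩
        obtain ⟨i, hi⟩ := mem_zpowers_iff.1 h1
        rw [mem_zpowers_iff]
        exact ⟨i, congrArg Subtype.val hi⟩
      obtain ⟨q, hq, hqx⟩ := exists_mem_sylow_conj hag (P.subtype hPN) (mem_normalizer_zpowers (x := x) (by
        rw [hx]; exact pow_mem (mem_zpowers _) j))
      rw [hx] at hqx
      have hqP : (q : G) ∈ (P : Subgroup G) := hq
      set q' : P := ⟨(q : G), hqP⟩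
      have h2 : q' * a * q'⁻¹ = a ^ j := Subtype.ext hqx
      by_cases hqa : q' ∈ zpowers a
      · left
        obtain ⟨i, hi⟩ := mem_zpowers_iff.1 hqa
        have h3 : a ^ j = a ^ 1 := by
          rw [← h2, ← hi, pow_one, ((Commute.refl a).zpow_left i).eq, mul_inv_cancel_right]
        rw [pow_eq_pow_iff_modEq, ha] at h3
        exact h3
      · right
        have h4 : q' * b ∈ zpowers a := (Subgroup.mul_mem_iff_of_index_two hidx2).2
          ⟨fun h => absurd h hqa, fun h => absurd h hb⟩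
        have h4' : q' * b⁻¹ ∈ zpowers a := (Subgroup.mul_mem_iff_of_index_two hidx2).2
          ⟨fun h => absurd h hqa, fun h => absurd (by simpa using h) hb⟩
        obtain ⟨i, hi⟩ := mem_zpowers_iff.1 h4'
        have h5 : q' = a ^ i * b := by rw [hi]; group
        have h3 : a ^ j = a ^ c := by
          rw [← h2, h5]
          calc a ^ i * b * a * (a ^ i * b)⁻¹ = a ^ i * (b * a * b⁻¹) * (a ^ i)⁻¹ := by group
            _ = a ^ c := by rw [hbc, (((Commute.refl a).zpow_left i).pow_right c).eq, mul_inv_cancel_right]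
        rw [pow_eq_pow_iff_modEq, ha] at h3
        exact h3
    · rintro (h | h)
      · have h1 : (a : G) ^ j = (a : G) ^ 1 := by rw [pow_eq_pow_iff_modEq, hag]; exact h
        rw [h1, pow_one]
      · have h1 : (a : G) ^ j = (a : G) ^ c := by rw [pow_eq_pow_iff_modEq, hag]; exact h
        rw [h1]
        exact isConj_iff.2 ⟨b, congrArg Subtype.val hbc⟩

/-! ### the fields -/

theorem fix_add_iff {m : ℕ} {ζ : ℂ} (hζ : IsPrimitiveRoot ζ m) (hm0 : m ≠ 0) {k : ℕ} (σ : ℂ ≃+* ℂ)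
    (hσ : σ ζ = ζ ^ k) : (∀ x ∈ ({ζ + ζ⁻¹} : Set ℂ), σ x = x) ↔ k ≡ 1 [MOD m] ∨ k ≡ m - 1 [MOD m] := by
  have h0 : ζ ≠ 0 := hζ.ne_zero hm0
  have hk0 : ζ ^ k ≠ 0 := pow_ne_zero _ h0
  have hinv : ζ⁻¹ = ζ ^ (m - 1) := by
    rw [inv_eq_iff_eq_inv, eq_comm, inv_eq_iff_eq_inv, eq_comm]
    apply inv_eq_of_mul_eq_one_left
    rw [← pow_succ, Nat.sub_add_cancel (by omega), hζ.pow_eq_one]
  have key : σ (ζ + ζ⁻¹) = ζ + ζ⁻¹ ↔ (ζ ^ k - ζ) * (ζ ^ k - ζ⁻¹) = 0 := by
    rw [map_add, map_inv₀, hσ, ← sub_eq_zero]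
    have h1 : (ζ ^ k - ζ) * (ζ ^ k - ζ⁻¹) = ζ ^ k * (ζ ^ k + (ζ ^ k)⁻¹ - (ζ + ζ⁻¹)) := by
      field_simp
      ring
    rw [h1, mul_eq_zero, or_iff_right hk0]
  have hmod : ∀ i : ℕ, ζ ^ k = ζ ^ i ↔ k ≡ i [MOD m] := by
    intro i
    rw [(hζ.isOfFinOrder hm0).pow_eq_pow_iff_modEq, ← hζ.eq_orderOf]
  simp only [Set.mem_singleton_iff, forall_eq]
  rw [key, mul_eq_zero, sub_eq_zero, sub_eq_zero, hinv, hmod, ← hmod 1, pow_one]

theorem fix_sub_iff {M : ℕ} {ζ : ℂ} (hζ : IsPrimitiveRoot ζ (2 * M)) (hm0 : M ≠ 0) {k : ℕ} (σ : ℂ ≃+* ℂ)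
    (hσ : σ ζ = ζ ^ k) : (∀ x ∈ ({ζ - ζ⁻¹} : Set ℂ), σ x = x) ↔ k ≡ 1 [MOD 2 * M] ∨ k ≡ M - 1 [MOD 2 * M] := by
  have hm : 2 * M ≠ 0 := by omega
  have h0 : ζ ≠ 0 := hζ.ne_zero hm
  have hk0 : ζ ^ k ≠ 0 := pow_ne_zero _ h0
  have hM : ζ ^ M = -1 := by
    have h1 : IsPrimitiveRoot (ζ ^ M) 2 := hζ.pow (by omega) (mul_comm 2 M)
    exact h1.eq_neg_one_of_two_right
  have hinv : ζ⁻¹ = - ζ ^ (M - 1) := by
    rw [eq_comm]
    apply eq_inv_of_mul_eq_one_left
    rw [neg_mul, ← pow_succ, Nat.sub_add_cancel (by omega), hM, neg_neg]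
  have key : σ (ζ - ζ⁻¹) = ζ - ζ⁻¹ ↔ (ζ ^ k - ζ) * (ζ ^ k + ζ⁻¹) = 0 := by
    rw [map_sub, map_inv₀, hσ, ← sub_eq_zero]
    have h1 : (ζ ^ k - ζ) * (ζ ^ k + ζ⁻¹) = ζ ^ k * (ζ ^ k - (ζ ^ k)⁻¹ - (ζ - ζ⁻¹)) := by
      field_simp
      ring
    rw [h1, mul_eq_zero, or_iff_right hk0]
  have hmod : ∀ i : ℕ, ζ ^ k = ζ ^ i ↔ k ≡ i [MOD 2 * M] := by
    intro i
    rw [(hζ.isOfFinOrder hm).pow_eq_pow_iff_modEq, ← hζ.eq_orderOf]
  simp only [Set.mem_singleton_iff, forall_eq]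
  rw [key, mul_eq_zero, sub_eq_zero, hinv, ← sub_eq_add_neg, sub_eq_zero, hmod, ← hmod 1, pow_one]

theorem isIntegral_root {m : ℕ} {ζ : ℂ} (hζ : IsPrimitiveRoot ζ m) (hm0 : m ≠ 0) : IsIntegral ℚ ζ :=
  IsIntegral.of_pow (Nat.pos_of_ne_zero hm0) (by rw [hζ.pow_eq_one]; exact isIntegral_one)

/-- field equality and class condition -/
theorem field_iff {n : ℕ} (hG : 2 ^ (n - 1) ∣ Nat.card G) {ζ z : ℂ} (hζ : IsPrimitiveRoot ζ (2 ^ (n - 1)))
    (hz : IsIntegral ℚ z) {c : ℕ}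
    (hfix : ∀ (σ : ℂ ≃+* ℂ) (k : ℕ), σ ζ = ζ ^ k → ((∀ x ∈ ({z} : Set ℂ), σ x = x) ↔
      k ≡ 1 [MOD 2 ^ (n - 1)] ∨ k ≡ c [MOD 2 ^ (n - 1)])) (g : G) :
    (IntermediateField.adjoin ℚ {z : ℂ | ∃ χ : Cfsg.IrrCharacter G, (χ : G → ℂ) g = z} = IntermediateField.adjoin ℚ ({z} : Set ℂ)) ↔
      ∀ k : ℕ, k.Coprime (Nat.card G) →
        (IsConj g (g ^ k) ↔ k ≡ 1 [MOD 2 ^ (n - 1)] ∨ k ≡ c [MOD 2 ^ (n - 1)]) := by
  have hζG : ζ ^ Nat.card G = 1 := by
    obtain ⟨w, hw⟩ := hG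
    rw [hw, pow_mul, hζ.pow_eq_one, one_pow]
  rw [adjoin_eq_iff (isIntegral_vals g) (by rintro x rfl; exact hz)]
  constructor
  · intro h k hk
    obtain ⟨σ, hσ⟩ := Char.exists_aut_pow (n := Nat.card G) Nat.card_pos.ne' hk
    rw [← fix_vals_iff g σ hσ, h σ]
    exact hfix σ k (hσ ζ hζG)
  · intro h σ
    obtain ⟨k, hk, hσ⟩ := exists_pow_of_aut (N := Nat.card G) Nat.card_pos.ne' σ
    rw [fix_vals_iff g σ hσ, h k hk]
    exact (hfix σ k (hσ ζ hζG)).symm

/-- from exponents prime to `|G|` to odd exponents -/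
theorem odd_of_coprime {P : Sylow 2 G} {n : ℕ} (hn : 3 ≤ n) (hP : Nat.card P = 2 ^ n) {g : G} (hg : g ∈ (P : Subgroup G))
    {c : ℕ} (h : ∀ k : ℕ, k.Coprime (Nat.card G) →
        (IsConj g (g ^ k) ↔ k ≡ 1 [MOD 2 ^ (n - 1)] ∨ k ≡ c [MOD 2 ^ (n - 1)])) (j : ℕ) (hj : Odd j) :
    IsConj g (g ^ j) ↔ j ≡ 1 [MOD 2 ^ (n - 1)] ∨ j ≡ c [MOD 2 ^ (n - 1)] := by
  haveI : Fact (Nat.Prime 2) := ⟨Nat.prime_two⟩
  have hidx : Nat.Coprime 2 (P : Subgroup G).index := by
    rw [Nat.prime_two.coprime_iff_not_dvd]; exact P.not_dvd_index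
  have hcop : Nat.Coprime (2 ^ n) (P : Subgroup G).index := Nat.Coprime.pow_left n hidx
  obtain ⟨K, hK1, hK2⟩ := Nat.chineseRemainder hcop j 1
  have hcardG : Nat.card G = 2 ^ n * (P : Subgroup G).index := by
    rw [← hP]; exact ((P : Subgroup G).card_mul_index).symm
  have hKG : K.Coprime (Nat.card G) := by
    rw [hcardG]
    apply Nat.Coprime.mul_right
    · apply Nat.Coprime.pow_right
      rw [Nat.coprime_comm, Nat.coprime_two_left]
      have h1 : K ≡ j [MOD 2] := hK1.of_dvd (dvd_pow_self 2 (by omega))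
      rw [Nat.odd_iff] at hj ⊢
      rw [← hj]; exact h1
    · have h1 : Nat.gcd K (P : Subgroup G).index = Nat.gcd 1 (P : Subgroup G).index := hK2.gcd_eq
      rw [Nat.Coprime, h1, Nat.gcd_one_left]
  have hgK : g ^ K = g ^ j := by
    rw [pow_eq_pow_iff_modEq]
    apply hK1.of_dvd
    rw [← hP]
    exact (P : Subgroup G).orderOf_dvd_natCard hg
  have hmod : K ≡ j [MOD 2 ^ (n - 1)] := hK1.of_dvd (pow_dvd_pow 2 (by omega))
  have h1 := h K hKG
  rw [hgK] at h1
  rw [h1]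
  constructor
  · rintro (h | h)
    · exact Or.inl (hmod.symm.trans h)
    · exact Or.inr (hmod.symm.trans h)
  · rintro (h | h)
    · exact Or.inl (hmod.trans h)
    · exact Or.inr (hmod.trans h)

theorem criterion (P : Sylow 2 G) (n : ℕ) (hn : 3 ≤ n) (hP : Nat.card P = 2 ^ n) (ζ : ℂ) (hζ : IsPrimitiveRoot ζ (2 ^ (n - 1))) :
    (_root_.commutator ↥P).index = 4 ↔
      ∃ g : G, g ∈ (P : Subgroup G) ∧ 2 ∣ (Subgroup.centralizer ({g} : Set G)).index ∧
        (IntermediateField.adjoin ℚ {z : ℂ | ∃ χ : Cfsg.IrrCharacter G, (χ : G → ℂ) g = z} = IntermediateField.adjoin ℚ ({ζ + ζ⁻¹} : Set ℂ) ∨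
          IntermediateField.adjoin ℚ {z : ℂ | ∃ χ : Cfsg.IrrCharacter G, (χ : G → ℂ) g = z} = IntermediateField.adjoin ℚ ({ζ - ζ⁻¹} : Set ℂ)) := by
  haveI : Fact (Nat.Prime 2) := ⟨Nat.prime_two⟩
  have hGd : 2 ^ (n - 1) ∣ Nat.card G := by
    have h1 : Nat.card P ∣ Nat.card G := (P : Subgroup G).card_subgroup_dvd_card
    rw [hP] at h1
    exact (pow_dvd_pow 2 (by omega)).trans h1
  have hm0 : 2 ^ (n - 1) ≠ 0 := by positivity
  have hζi := isIntegral_root hζ hm0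
  have hplus := fun (g : G) => field_iff (G := G) hGd hζ (z := ζ + ζ⁻¹) (hζi.add hζi.inv) (c := 2 ^ (n - 1) - 1)
    (fun σ k h => fix_add_iff hζ hm0 σ h) g
  have h2M : 2 ^ (n - 1) = 2 * 2 ^ (n - 2) := by
    rw [← pow_succ']; congr 1; omega
  have hminus := fun (g : G) => field_iff (G := G) hGd hζ (z := ζ - ζ⁻¹) (hζi.sub hζi.inv) (c := 2 ^ (n - 2) - 1)
    (fun σ k h => by
      have := fix_sub_iff (M := 2 ^ (n - 2)) (by rw [← h2M]; exact hζ) (by positivity) (k := k) σ h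
      rwa [← h2M] at this) g
  constructor
  · intro h
    obtain ⟨g, hg, heven, -, c, hc, hconj⟩ := class_of_index hn hP h
    refine ⟨g, hg, heven, ?_⟩
    rw [hplus g, hminus g]
    rcases hc with rfl | rfl
    · exact Or.inl fun k _ => hconj k
    · exact Or.inr fun k _ => hconj k
  · rintro ⟨g, hg, heven, h⟩
    rw [hplus g, hminus g] at h
    rcases h with h | h
    · exact index_of_class hn hP hg heven (Or.inl rfl) (odd_of_coprime hn hP hg h)
    · exact index_of_class hn hP hg heven (Or.inr rfl) (odd_of_coprime hn hP hg h)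

end Cfsg.Agent.H25
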