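import Cfsg.Agent.Blk.Gal
import Cfsg.Agent.CharBase.Column

/-!
# Fields of values: equality of subfields of `ℂ` through automorphisms of `ℂ`
-/

set_option autoImplicit false

namespace Cfsg.Agent.H25

open Cfsg Cfsg.Agent Cardinal IntermediateField

theorem mk_adjoin_le {S : Set ℂ} (hS : ∀ x ∈ S, IsIntegral ℚ x) : #(adjoin ℚ S) ≤ ℵ₀ := by
  have : Algebra.IsAlgebraic ℚ (adjoin ℚ S) := isAlgebraic_adjoin hS
  have h1 := Algebra.IsAlgebraic.cardinalMk_le_max ℚ (adjoin ℚ S)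
  exact h1.trans (max_le (by rw [Cardinal.mk_eq_aleph0 ℚ]) le_rfl)

theorem fix_adjoin {S : Set ℂ} (σ : ℂ ≃+* ℂ) (h : ∀ x ∈ S, σ x = x) : ∀ x ∈ adjoin ℚ S, σ x = x := by
  intro x hx
  induction hx using IntermediateField.adjoin_induction with
  | mem x hx => exact h x hx
  | algebraMap q =>
    change σ ((q : ℚ) : ℂ) = q
    exact map_ratCast σ q
  | add x y _ _ hx hy => rw [map_add, hx, hy]
  | inv x _ hx => rw [map_inv₀, hx]
  | mul x y _ _ hx hy => rw [map_mul, hx, hy]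

/-- one inclusion -/
theorem adjoin_le_of_fix {S T : Set ℂ} (hS : ∀ x ∈ S, IsIntegral ℚ x) (hT : ∀ x ∈ T, IsIntegral ℚ x)
    (h : ∀ σ : ℂ ≃+* ℂ, (∀ x ∈ T, σ x = x) → ∀ x ∈ S, σ x = x) : adjoin ℚ S ≤ adjoin ℚ T := by
  rw [adjoin_le_iff]
  intro z hz
  refine Blk.mem_of_fixed_by_aut (adjoin ℚ T) (mk_adjoin_le hT) ?_ ?_
  · exact ((hS z hz).isAlgebraic).tower_top _
  · intro σ hσ
    exact h σ (fun x hx => hσ x (subset_adjoin ℚ T hx)) z hz

theorem adjoin_eq_iff {S T : Set ℂ} (hS : ∀ x ∈ S, IsIntegral ℚ x) (hT : ∀ x ∈ T, IsIntegral ℚ x) :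
    adjoin ℚ S = adjoin ℚ T ↔ ∀ σ : ℂ ≃+* ℂ, (∀ x ∈ S, σ x = x) ↔ (∀ x ∈ T, σ x = x) := by
  constructor
  · intro h σ
    constructor
    · intro h1 x hx
      exact fix_adjoin σ h1 x (h ▸ subset_adjoin ℚ T hx)
    · intro h1 x hx
      exact fix_adjoin σ h1 x (h ▸ subset_adjoin ℚ S hx)
  · intro h
    exact le_antisymm (adjoin_le_of_fix hS hT fun σ => (h σ).2) (adjoin_le_of_fix hT hS fun σ => (h σ).1)

/-- every automorphism of `ℂ` acts on the `N`-th roots of unity as a power prime to `N` -/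
theorem exists_pow_of_aut {N : ℕ} (hN : N ≠ 0) (σ : ℂ ≃+* ℂ) :
    ∃ k : ℕ, k.Coprime N ∧ ∀ ζ : ℂ, ζ ^ N = 1 → σ ζ = ζ ^ k := by
  haveI : NeZero N := ⟨hN⟩
  have hζ := Complex.isPrimitiveRoot_exp N hN
  set w := Complex.exp (2 * Real.pi * Complex.I / N)
  have h1 : (σ w) ^ N = 1 := by rw [← map_pow, hζ.pow_eq_one, map_one]
  obtain ⟨k, -, hk⟩ := hζ.eq_pow_of_pow_eq_one h1
  refine ⟨k, ?_, ?_⟩
  · have : IsPrimitiveRoot (w ^ k) N := by rw [hk]; exact hζ.map_of_injective σ.injective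
    exact (hζ.pow_iff_coprime (Nat.pos_of_ne_zero hN) k).mp this
  · intro z hz
    obtain ⟨j, -, rfl⟩ := hζ.eq_pow_of_pow_eq_one hz
    rw [map_pow, ← hk, ← pow_mul, ← pow_mul, mul_comm]

variable {G : Type*} [Group G] [Finite G]

theorem isIntegral_vals (g : G) : ∀ x ∈ {z : ℂ | ∃ χ : IrrCharacter G, (χ : G → ℂ) g = z}, IsIntegral ℚ x := by
  rintro x ⟨χ, rfl⟩
  exact (CharBase.irr_isIntegral χ g).tower_top

theorem fix_vals_iff (g : G) {k : ℕ} (σ : ℂ ≃+* ℂ)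
    (hσ : ∀ ζ : ℂ, ζ ^ (Nat.card G) = 1 → σ ζ = ζ ^ k) :
    (∀ x ∈ {z : ℂ | ∃ χ : IrrCharacter G, (χ : G → ℂ) g = z}, σ x = x) ↔ IsConj g (g ^ k) := by
  constructor
  · intro h
    apply CharBase.isConj_of_irr_eq
    intro χ
    have h1 := Char.map_char_eq (CharBase.irr_isCharacter χ) g (orderOf_dvd_natCard g) σ hσ
    rw [← h1]
    exact (h _ ⟨χ, rfl⟩).symm
  · rintro h x ⟨χ, rfl⟩
    rw [Char.map_char_eq (CharBase.irr_isCharacter χ) g (orderOf_dvd_natCard g) σ hσ]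
    exact CharBase.classFun_eq_of_isConj (CharBase.irr_isClassFunction χ) h.symm

end Cfsg.Agent.H25
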